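import Cfsg.Agent.Lib.Helper86.FusionNormal
import Cfsg.Agent.S5085

set_option autoImplicit false

namespace Cfsg.Agent.Lib.Helper86

open Cfsg Cfsg.FusionSystem Cfsg.Agent.Lib

variable {Ω : Type*} [Group Ω] {S : Subgroup Ω}

/-- If `z = x⁻¹ α(x)` is fixed by `α`, `α ^ m = 1` with `m` prime to `p`, and `z` is a `p`-element,
then `α x = x`. -/
theorem aut_fix_of_coprime {P : Type*} [Group P] {p m : ℕ} (hp : IsPGroup p P) (α : MulAut P)
    (hm : α ^ m = 1) (hcop : m.Coprime p) (x : P) (hz : α (x⁻¹ * α x) = x⁻¹ * α x) : α x = x := by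
  have hk : ∀ k : ℕ, (α ^ k) x = x * (x⁻¹ * α x) ^ k := by
    intro k
    induction k with
    | zero => simp
    | succ k ih =>
      rw [pow_succ', MulAut.mul_apply, ih, map_mul, map_pow, hz, pow_succ', ← mul_assoc,
        mul_inv_cancel_left]
  have h1 := hk m
  rw [hm, MulAut.one_apply] at h1
  have h2 : (x⁻¹ * α x) ^ m = 1 := by
    have := mul_left_cancel (a := x) (b := 1) (c := (x⁻¹ * α x) ^ m) (by rw [mul_one]; exact h1)
    exact this.symm
  obtain ⟨j, hj⟩ := hp (x⁻¹ * α x)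
  have h3 : orderOf (x⁻¹ * α x) ∣ Nat.gcd m (p ^ j) :=
    Nat.dvd_gcd (orderOf_dvd_of_pow_eq_one h2) (orderOf_dvd_of_pow_eq_one hj)
  rw [Nat.Coprime.pow_right j hcop] at h3
  have h4 : x⁻¹ * α x = 1 := orderOf_eq_one_iff.1 (Nat.dvd_one.1 h3)
  exact (inv_mul_eq_one.1 h4).symm

/-- The automorphisms in `A` moving each element of `U ∩ P` by an element of `V`. -/
def stabPair {P : Subgroup Ω} (A : Subgroup (MulAut P)) (U V : Subgroup Ω)
    (hU : ∀ α ∈ A, ∀ x : P, (x : Ω) ∈ U → ((α x : P) : Ω) ∈ U) : Subgroup A where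
  carrier := {α | ∀ x : P, (x : Ω) ∈ U → (x : Ω)⁻¹ * (((α : MulAut P) x : P) : Ω) ∈ V}
  one_mem' := by
    intro x _
    simp
  mul_mem' := by
    intro α β hα hβ x hx
    have h1 := hβ x hx
    have h2 := hα ((β : MulAut P) x) (hU β β.2 x hx)
    have h3 := V.mul_mem h1 h2
    simpa [mul_assoc] using h3
  inv_mem' := by
    intro α hα x hx
    have hy := hU (α⁻¹ : A) (α⁻¹ : A).2 x hx
    have h1 := V.inv_mem (hα (((α⁻¹ : A) : MulAut P) x) hy)
    simpa using h1

theorem mem_stabPair {P : Subgroup Ω} {A : Subgroup (MulAut P)} {U V : Subgroup Ω}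
    {hU : ∀ α ∈ A, ∀ x : P, (x : Ω) ∈ U → ((α x : P) : Ω) ∈ U} {α : A} :
    α ∈ stabPair A U V hU ↔
      ∀ x : P, (x : Ω) ∈ U → (x : Ω)⁻¹ * (((α : MulAut P) x : P) : Ω) ∈ V := Iff.rfl

theorem stabPair_normal {P : Subgroup Ω} (A : Subgroup (MulAut P)) (U V : Subgroup Ω)
    (hU : ∀ α ∈ A, ∀ x : P, (x : Ω) ∈ U → ((α x : P) : Ω) ∈ U)
    (hV : ∀ α ∈ A, ∀ x : P, (x : Ω) ∈ V → ((α x : P) : Ω) ∈ V) : (stabPair A U V hU).Normal := by
  constructor
  intro α hα γ x hx
  have hy := hU (γ⁻¹ : A) (γ⁻¹ : A).2 x hx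
  have h1 := hα (((γ⁻¹ : A) : MulAut P) x) hy
  have h2 := hV γ γ.2 ((((γ⁻¹ : A) : MulAut P) x)⁻¹ * (α : MulAut P) (((γ⁻¹ : A) : MulAut P) x)) h1
  simpa using h2

theorem stronglyClosed_aut_mem' {F : FusionSystem S} {K P : Subgroup Ω} (hK : F.StronglyClosed K)
    (hPS : P ≤ S) {α : MulAut P} (hα : α ∈ F.autGroup P) (x : P) (hx : (x : Ω) ∈ K) :
    ((α x : P) : Ω) ∈ K := by
  have h1 : IsIso F (α : P ≃* P) := (mem_autGroup_iff F hPS).1 hα
  exact hK.2 (P ⊓ K) inf_le_right _ (restrict_mem F h1 inf_le_left) ⟨x, x.2, hx⟩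

theorem stronglyClosed_conj_mem {F : FusionSystem S} {K : Subgroup Ω} (hK : F.StronglyClosed K)
    {g x : Ω} (hg : g ∈ S) (hx : x ∈ K) : g * x * g⁻¹ ∈ K :=
  hK.2 K le_rfl _ (F.conj_mem hK.1 hg) ⟨x, hx⟩

theorem mem_sup_of_normalizes {P Q : Subgroup Ω} (h : ∀ u ∈ P, ∀ g ∈ Q, u * g * u⁻¹ ∈ Q) {y : Ω}
    (hy : y ∈ P ⊔ Q) : ∃ u ∈ P, ∃ g ∈ Q, y = u * g := by
  rw [Subgroup.sup_eq_closure] at hy
  induction hy using Subgroup.closure_induction with
  | mem a ha =>
    rcases ha with ha | ha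
    · exact ⟨a, ha, 1, Q.one_mem, by simp⟩
    · exact ⟨1, P.one_mem, a, ha, by simp⟩
  | one => exact ⟨1, P.one_mem, 1, Q.one_mem, by simp⟩
  | mul a b _ _ ha hb =>
    obtain ⟨u, hu, g, hg, rfl⟩ := ha
    obtain ⟨u', hu', g', hg', rfl⟩ := hb
    refine ⟨u * u', P.mul_mem hu hu', (u'⁻¹ * g * u'⁻¹⁻¹) * g',
      Q.mul_mem (h _ (P.inv_mem hu') _ hg) hg', by group⟩
  | inv a _ ha =>
    obtain ⟨u, hu, g, hg, rfl⟩ := ha
    exact ⟨u⁻¹, P.inv_mem hu, u * g⁻¹ * u⁻¹, h _ hu _ (Q.inv_mem hg), by group⟩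

/-- AKO I.4.6, the hard direction: containment in centric radical subgroups. -/
theorem le_of_series [Finite S] {p : ℕ} [Fact p.Prime] (hS : IsPGroup p S) {F : FusionSystem S}
    {Q P : Subgroup Ω} {n : ℕ} {Qs : Fin (n + 1) → Subgroup Ω} (h0 : Qs 0 = ⊥)
    (hlast : Qs (Fin.last n) = Q)
    (hsc : ∀ i : Fin n, F.StronglyClosed (Qs i.succ) ∧ ⁅Q, Qs i.succ⁆ ≤ Qs (Fin.castSucc i))
    (hQsc : F.StronglyClosed Q) (hc : F.IsCentric P) (hr : F.IsRadical p P) : Q ≤ P := by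
  have hPS : P ≤ S := hc.1
  have hQS : Q ≤ S := hQsc.1
  have hPQS : P ⊔ Q ≤ S := sup_le hPS hQS
  have : Finite P := finite_of_le hPS
  have : Finite (P ⊔ Q : Subgroup Ω) := finite_of_le hPQS
  have hcP : centralizerIn S P ≤ P := hc.2 P (isConj_refl F hPS)
  have hPp : IsPGroup p P := hS.to_le hPS
  have hinv : ∀ j : Fin (n + 1), ∀ α ∈ F.autGroup P, ∀ x : P, (x : Ω) ∈ Qs j →
      ((α x : P) : Ω) ∈ Qs j := by
    intro j
    refine Fin.cases ?_ (fun i => ?_) j
    · intro α _ x hx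
      rw [h0, Subgroup.mem_bot] at hx ⊢
      have : x = 1 := Subtype.ext hx
      rw [this, map_one]; rfl
    · intro α hα x hx
      exact stronglyClosed_aut_mem' (hsc i).1 hPS hα x hx
  have hinvQ : ∀ α ∈ F.autGroup P, ∀ x : P, (x : Ω) ∈ Q → ((α x : P) : Ω) ∈ Q :=
    fun α hα x hx => stronglyClosed_aut_mem' hQsc hPS hα x hx
  have hinvT : ∀ α ∈ F.autGroup P, ∀ x : P, (x : Ω) ∈ (⊤ : Subgroup Ω) →
      ((α x : P) : Ω) ∈ (⊤ : Subgroup Ω) := fun _ _ _ _ => Subgroup.mem_top _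
  let D : Subgroup (F.autGroup P) := stabPair (F.autGroup P) ⊤ Q hinvT ⊓
    ⨅ i : Fin n, stabPair (F.autGroup P) (Qs i.succ) (Qs (Fin.castSucc i)) (hinv i.succ)
  have hDn : D.Normal := by
    have h1 := stabPair_normal (F.autGroup P) ⊤ Q hinvT hinvQ
    have h2 : (⨅ i : Fin n, stabPair (F.autGroup P) (Qs i.succ) (Qs (Fin.castSucc i))
        (hinv i.succ)).Normal :=
      Subgroup.normal_iInf_normal (fun i => stabPair_normal _ _ _ _ (hinv (Fin.castSucc i)))
    exact Subgroup.normal_inf_normal _ _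
  have hDtriv : ∀ β ∈ D, ∀ m : ℕ, m.Coprime p → β ^ m = 1 → β = 1 := by
    intro β hβ m hcop hm
    have hm' : (β : MulAut P) ^ m = 1 := by
      have := congrArg Subtype.val hm
      simpa using this
    have hfix : ∀ j : Fin (n + 1), ∀ x : P, (x : Ω) ∈ Qs j → (β : MulAut P) x = x := by
      intro j
      induction j using Fin.induction with
      | zero =>
        intro x hx
        rw [h0, Subgroup.mem_bot] at hx
        have : x = 1 := Subtype.ext hx
        rw [this, map_one]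
      | succ i ih =>
        intro x hx
        have h3 := (Subgroup.mem_iInf.1 hβ.2 i) x hx
        exact aut_fix_of_coprime hPp _ hm' hcop x (ih (x⁻¹ * (β : MulAut P) x) h3)
    ext x
    have h4 := hβ.1 x (Subgroup.mem_top _)
    rw [← hlast] at h4
    have h5 := aut_fix_of_coprime hPp _ hm' hcop x (hfix _ (x⁻¹ * (β : MulAut P) x) h4)
    simp [h5]
  have hDp : IsPGroup p D := by
    rintro ⟨β, hβ⟩
    have hord : orderOf β ≠ 0 := (orderOf_pos β).ne'
    obtain ⟨e, m, hm, hem⟩ := Nat.exists_eq_pow_mul_and_not_dvd hord p (Fact.out : p.Prime).ne_one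
    refine ⟨e, ?_⟩
    have h6 : (β ^ p ^ e) ^ m = 1 := by
      rw [← pow_mul, ← hem, pow_orderOf_eq_one]
    have h7 := hDtriv (β ^ p ^ e) (D.pow_mem hβ _) m
      ((Nat.Prime.coprime_iff_not_dvd Fact.out).2 hm).symm h6
    exact Subtype.ext h7
  have hDI : ∀ d ∈ D, (d : MulAut P) ∈ Inn P := by
    intro d hd
    rw [← hr.2]
    exact ⟨d, Helper51.le_pCore p hDn hDp hd, rfl⟩
  have hNQ : ∀ g ∈ Q, g ∈ Subgroup.normalizer (P : Set Ω) → g ∈ P := by
    intro g hgQ hgN
    by_contra hgP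
    have hgS : g ∈ S := hQS hgQ
    refine conjAut_not_mem_inn hcP hgS hPS hgN hgP (hDI ⟨conjAut P g hgN,
      autInducedBy_le_autGroup F hPS (conjAut_mem_autInducedBy hgN hgS)⟩ ?_)
    refine ⟨fun x _ => ?_, Subgroup.mem_iInf.2 (fun i x hx => ?_)⟩
    · show (x : Ω)⁻¹ * (g * x * g⁻¹) ∈ Q
      have h8 := stronglyClosed_conj_mem hQsc (S.inv_mem (hPS x.2)) hgQ
      have h9 := Q.mul_mem h8 (Q.inv_mem hgQ)
      simpa [mul_assoc] using h9
    · show (x : Ω)⁻¹ * (g * x * g⁻¹) ∈ Qs (Fin.castSucc i)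
      apply (hsc i).2
      rw [Subgroup.commutator_comm]
      have h10 := Subgroup.commutator_mem_commutator (Subgroup.inv_mem _ hx) hgQ
      rw [commutatorElement_def] at h10
      simpa [mul_assoc] using h10
  by_contra hQP
  have hlt : P < P ⊔ Q := lt_of_le_of_ne le_sup_left (fun h => hQP (h ▸ le_sup_right))
  obtain ⟨y, hy, hyN, hyP⟩ := exists_normalizer_growth (hS.to_le hPQS) hlt
  obtain ⟨u, hu, g, hg, rfl⟩ := mem_sup_of_normalizes
    (fun u hu g hg => stronglyClosed_conj_mem hQsc (hPS hu) hg) hy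
  have hgN : g ∈ Subgroup.normalizer (P : Set Ω) := by
    have h11 : g = u⁻¹ * (u * g) := by group
    rw [h11]
    exact Subgroup.mul_mem _ (Subgroup.inv_mem _ (Subgroup.le_normalizer hu)) hyN
  exact hyP (P.mul_mem hu (hNQ g hg hgN))

theorem stronglyClosed_bot (F : FusionSystem S) : F.StronglyClosed ⊥ := by
  refine ⟨bot_le, fun R hR φ _ x => ?_⟩
  have : x = 1 := Subtype.ext (Subgroup.mem_bot.1 (hR x.2))
  rw [this, map_one]
  exact Subgroup.one_mem _

/-- AKO I.4.6 (S5088). -/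
theorem isNormal_iff_series [Finite S] {p : ℕ} [Fact p.Prime] (hS : IsPGroup p S)
    (F : FusionSystem S) (hF : F.IsSaturated p) (Q : Subgroup Ω) :
    F.IsNormal Q ↔ ∃ (n : ℕ) (Qs : Fin (n + 1) → Subgroup Ω), Qs 0 = ⊥ ∧ Qs (Fin.last n) = Q ∧
      Monotone Qs ∧ ∀ i : Fin n, F.StronglyClosed (Qs i.succ) ∧
        ⁅Q, Qs i.succ⁆ ≤ Qs (Fin.castSucc i) := by
  constructor
  · intro hQ
    have hQS : Q ≤ S := hQ.1
    have : Finite Q := finite_of_le hQS
    have hnil : Group.IsNilpotent Q := (hS.to_le hQS).isNilpotent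
    refine ⟨Group.nilpotencyClass Q,
      fun i => (Subgroup.upperCentralSeries Q i).map Q.subtype, ?_, ?_, ?_, fun i => ⟨?_, ?_⟩⟩
    · simp
    · simp only [Fin.val_last, Subgroup.upperCentralSeries_nilpotencyClass]
      rw [← MonoidHom.range_eq_map, Subgroup.range_subtype]
    · intro i j hij
      exact Subgroup.map_mono (Subgroup.upperCentralSeries_mono Q hij)
    · apply isNormal_stronglyClosed
      refine Cfsg.Agent.S5085.result F Q _ hQ (Subgroup.map_subtype_le _) ?_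
      have : ((Subgroup.upperCentralSeries Q (i.succ : ℕ)).map Q.subtype).subgroupOf Q =
          Subgroup.upperCentralSeries Q (i.succ : ℕ) :=
        Subgroup.comap_map_eq_self_of_injective (Subgroup.subtype_injective _) _
      rw [this]
      infer_instance
    · rw [Subgroup.commutator_comm, Subgroup.commutator_le]
      rintro _ ⟨x, hx, rfl⟩ y hy
      have hx' : x ∈ Subgroup.upperCentralSeries Q ((i : ℕ) + 1) := by simpa using hx
      have h1 := Subgroup.mem_upperCentralSeries_succ_iff.1 hx' ⟨y, hy⟩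
      exact ⟨_, h1, rfl⟩
  · rintro ⟨n, Qs, h0, hlast, -, hsc⟩
    have hQsc : F.StronglyClosed Q := by
      cases n with
      | zero =>
        have : Q = ⊥ := by rw [← hlast, ← h0]; rfl
        rw [this]; exact stronglyClosed_bot F
      | succ n =>
        rw [← hlast]
        exact (hsc (Fin.last n)).1
    exact (isNormal_iff_stronglyClosed hS F hF Q).2
      ⟨hQsc, fun P hc hr => le_of_series hS h0 hlast hsc hQsc hc hr⟩

/-- An abelian strongly closed subgroup is normal in a saturated system. -/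
theorem isNormal_of_abelian_stronglyClosed [Finite S] {p : ℕ} [Fact p.Prime] (hS : IsPGroup p S)
    (F : FusionSystem S) (hF : F.IsSaturated p) {Q : Subgroup Ω} (hab : IsMulCommutative Q)
    (hsc : F.StronglyClosed Q) : F.IsNormal Q := by
  rw [isNormal_iff_series hS F hF]
  refine ⟨1, ![⊥, Q], rfl, rfl, ?_, fun i => ?_⟩
  · intro i j hij
    fin_cases i <;> fin_cases j <;> simp_all
  · fin_cases i
    refine ⟨hsc, ?_⟩
    show ⁅Q, Q⁆ ≤ ⊥
    rw [Subgroup.commutator_le]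
    intro x hx y hy
    rw [Subgroup.mem_bot, commutatorElement_eq_one_iff_mul_comm]
    have := mul_comm' (⟨x, hx⟩ : Q) ⟨y, hy⟩
    exact congrArg Subtype.val this

/-- AKO I.4.7 (S5089). -/
theorem core_ne_bot_iff [Finite S] {p : ℕ} [Fact p.Prime] (hS : IsPGroup p S)
    (F : FusionSystem S) (hF : F.IsSaturated p) :
    F.core ≠ ⊥ ↔ ∃ Q : Subgroup Ω, Q ≠ ⊥ ∧ IsMulCommutative Q ∧ F.StronglyClosed Q := by
  constructor
  · intro h
    have hex : ∃ Q : Subgroup Ω, F.IsNormal Q ∧ Q ≠ ⊥ := by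
      by_contra hcon
      push Not at hcon
      apply h
      rw [eq_bot_iff]
      exact sSup_le (fun Q hQ => (hcon Q hQ).le)
    obtain ⟨Q, hQ, hne⟩ := hex
    have hQS : Q ≤ S := hQ.1
    have : Finite Q := finite_of_le hQS
    have : Nontrivial Q := (Subgroup.nontrivial_iff_ne_bot Q).2 hne
    have hcn : Nontrivial (Subgroup.center Q) := (hS.to_le hQS).center_nontrivial
    refine ⟨(Subgroup.center Q).map Q.subtype, ?_, ?_, ?_⟩
    · intro hbot
      rw [Subgroup.map_eq_bot_iff_of_injective _ (Subgroup.subtype_injective _)] at hbot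
      exact (Subgroup.nontrivial_iff_ne_bot _).1 hcn hbot
    · exact Subgroup.map_isMulCommutative _ _
    · apply isNormal_stronglyClosed
      refine Cfsg.Agent.S5085.result F Q _ hQ (Subgroup.map_subtype_le _) ?_
      have : ((Subgroup.center Q).map Q.subtype).subgroupOf Q = Subgroup.center Q :=
        Subgroup.comap_map_eq_self_of_injective (Subgroup.subtype_injective _) _
      rw [this]
      infer_instance
  · rintro ⟨Q, hne, hab, hsc⟩ hbot
    have hQ := isNormal_of_abelian_stronglyClosed hS F hF hab hsc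
    have hle : Q ≤ F.core := le_sSup hQ
    rw [hbot, le_bot_iff] at hle
    exact hne hle

end Cfsg.Agent.Lib.Helper86
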