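import Cfsg.Agent.Lib.Helper53.KS18Defs
import Cfsg.Agent.Lib.Helper53.BALoc1
import Cfsg.Agent.Lib.Helper36.BABstrA

set_option autoImplicit false

/-! Ladder KS18 (S0518), rung BAS: the basic facts in case B. -/

namespace Cfsg.Agent.Lib.Helper86.KS18

open Cfsg Subgroup
open scoped commutatorElement
open Cfsg.Agent.Lib.Helper53 Cfsg.Agent.Lib.Helper53.KS18
open Cfsg.Agent.Lib.Helper53.JC (cjj QQ)
open Cfsg.Agent.Lib.Helper53.SA2 (BHyp)
open Cfsg.Agent.Lib.Helper36.BA (card_mul_relIndex' mul_mem_iff_of_relIndex_two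
  not_le_of_relIndex_two relIndex_inf_two)

set_option linter.unusedSectionVars false

variable {G : Type*} [Group G] [Finite G]

/-- a group of exponent two is commutative, elementwise form -/
theorem comm_of_sq {Q : Subgroup G} (e : ∀ g ∈ Q, g * g = 1) {a b : G} (ha : a ∈ Q) (hb : b ∈ Q) :
    a * b = b * a := by
  have h1 := e (a * b) (Q.mul_mem ha hb)
  have h2 := e a ha
  have h3 := e b hb
  calc a * b = (b * b) * (a * b) * (a * a) := by rw [h2, h3]; group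
    _ = b * (b * a) * (b * a) * a := by group
    _ = b * ((b * a) * (b * a)) * a := by group
    _ = b * 1 * a := by rw [e (b * a) (Q.mul_mem hb ha)]
    _ = b * a := by group

theorem inv_of_sq {a : G} (h : a * a = 1) : a⁻¹ = a := inv_eq_of_mul_eq_one_left h

/-- one-sided facts -/
structure Side (P P' T : Subgroup G) (c : G) : Prop where
  QT : QQ P ≤ T
  ind : (QQ P).relIndex T = 2
  ind3 : T.relIndex P = 3
  CQ : T ⊓ centralizer (QQ P : Set G) ≤ QQ P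
  NQ : normalizer (QQ P : Set G) = P
  Cc : centralizer {c} = P
  max : ∀ R : Subgroup G, IsPGroup 2 ↥R → T ≤ R → R ≤ P → R = T
  nc : c ∉ ⁅P, P⁆

theorem centralizer_eq_normalizer_zpowers {c : G} (hc : c * c = 1) (hc1 : c ≠ 1) :
    centralizer {c} = normalizer ((zpowers c : Subgroup G) : Set G) := by
  have hz : ∀ x, x ∈ zpowers c ↔ x = 1 ∨ x = c := by
    intro x
    constructor
    · intro hx
      obtain ⟨k, hk⟩ := mem_zpowers_iff.1 hx
      rw [← hk]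
      rcases Int.even_or_odd' k with ⟨m, rfl | rfl⟩
      · left
        rw [zpow_mul, zpow_ofNat, pow_two, hc, one_zpow]
      · right
        rw [zpow_add, zpow_mul, zpow_ofNat, pow_two, hc, one_zpow, one_mul, zpow_one]
    · rintro (rfl | rfl)
      · exact one_mem _
      · exact mem_zpowers _
  ext g
  rw [mem_centralizer_singleton_iff, mem_normalizer_iff]
  constructor
  · intro h x
    have hx : ∀ x, x ∈ zpowers c → g * x * g⁻¹ = x := by
      intro x hx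
      rcases (hz x).1 hx with rfl | rfl
      · group
      · rw [h]; group
    constructor
    · intro h1; rw [hx x h1]; exact h1
    · intro h1
      rcases (hz _).1 h1 with h2 | h2
      · have : x = 1 := by
          have := congrArg (fun y => g⁻¹ * y * g) h2
          simpa [mul_assoc] using this
        rw [this]; exact one_mem _
      · have : x = c := by
          have h3 : g * x * g⁻¹ = g * c * g⁻¹ := by rw [h2, h]; group
          have := congrArg (fun y => g⁻¹ * y * g) h3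
          simpa [mul_assoc] using this
        rw [this]; exact mem_zpowers _
  · intro h
    have h1 := (h c).1 (mem_zpowers c)
    rcases (hz _).1 h1 with h2 | h2
    · exfalso
      apply hc1
      have := congrArg (fun y => g⁻¹ * y * g) h2
      simpa [mul_assoc] using this
    · calc g * c = g * c * g⁻¹ * g := by group
        _ = c * g := by rw [h2]

theorem side {P T : Subgroup G} {c : G} (P' : Subgroup G) (syl : IsSylowTwoIn T P)
    (h6 : (pCoreOf 2 P).relIndex P = 6)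
    (hchar : P ⊓ centralizer (pCoreOf 2 P : Set G) ≤ pCoreOf 2 P) (e : ∀ g ∈ QQ P, g * g = 1)
    (m : IsMaximalTwoLocal P) (k : Nat.card ↥(QQ P) = 8)
    (i : Nonempty (↥P ≃* Equiv.Perm (Fin 4) × Multiplicative (ZMod 2)))
    (cQ : c ∈ QQ P) (cP : P ≤ centralizer {c}) (c1 : c ≠ 1) : Side P P' T c := by
  obtain ⟨hQT, hi2, hi3⟩ := Helper53.BA.indices syl h6
  have hQ1 : QQ P ≠ ⊥ := by
    intro h
    rw [h] at k
    simp at k
  refine ⟨hQT, hi2, hi3, ?_, ?_, ?_, ?_, ?_⟩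
  · intro x hx
    exact hchar ⟨syl.1 hx.1, hx.2⟩
  · exact m.2 _ ⟨QQ P, pCoreOf_isPGroup 2 P, hQ1, rfl⟩ (le_normalizer_pCoreOf 2 P)
  · have hcc : c * c = 1 := e c cQ
    rw [centralizer_eq_normalizer_zpowers hcc c1]
    refine m.2 _ ⟨zpowers c, ?_, ?_, rfl⟩ ?_
    · exact (pCoreOf_isPGroup 2 P).to_le (by rw [zpowers_le]; exact cQ)
    · rw [Ne, zpowers_eq_bot]; exact c1
    · rw [← centralizer_eq_normalizer_zpowers hcc c1]; exact cP
  · intro R hR hTR hRP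
    exact (JC.isSylowTwoIn_iff.1 syl).eq_of_le hRP hR hTR
  · intro hc
    obtain ⟨φ⟩ := i
    have hcP : c ∈ P := pCoreOf_le 2 P cQ
    let f : ↥P →* Multiplicative (ZMod 2) :=
      (MonoidHom.snd (Equiv.Perm (Fin 4)) (Multiplicative (ZMod 2))).comp φ.toMonoidHom
    have hker : (⟨c, hcP⟩ : ↥P) ∈ commutator ↥P := by
      rw [← map_subtype_commutator] at hc
      obtain ⟨y, hy, hyc⟩ := hc
      have : y = ⟨c, hcP⟩ := Subtype.ext hyc
      rw [← this]; exact hy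
    have hf : f ⟨c, hcP⟩ = 1 := Abelianization.commutator_subset_ker f hker
    have hcen : ∀ y : ↥P, y * ⟨c, hcP⟩ = ⟨c, hcP⟩ * y := by
      intro y
      apply Subtype.ext
      have := mem_centralizer_singleton_iff.1 (cP y.2)
      exact this
    have hfst : (φ ⟨c, hcP⟩).1 ∈ center (Equiv.Perm (Fin 4)) := by
      rw [mem_center_iff]
      intro σ
      have h1 := hcen (φ.symm (σ, 1))
      have h2 := congrArg (fun y => (φ y).1) h1
      simpa using h2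
    have hdec : ∀ σ : Equiv.Perm (Fin 4), (∀ τ : Equiv.Perm (Fin 4), τ * σ = σ * τ) → σ = 1 := by
      decide
    replace hfst := hdec _ (mem_center_iff.1 hfst)
    have h1 : φ ⟨c, hcP⟩ = 1 := Prod.ext hfst hf
    have h2 : (⟨c, hcP⟩ : ↥P) = 1 := by
      rw [← map_one φ] at h1
      exact φ.injective h1
    exact c1 (congrArg Subtype.val h2)

/-- an element of `Q₁` commuting with an element of `T` outside `Q₁` lies in `Q₂` -/
theorem mem_of_comm {Q₁ Q₂ T : Subgroup G} (hQT₁ : Q₁ ≤ T) (hQT₂ : Q₂ ≤ T) (hi₁ : Q₁.relIndex T = 2)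
    (e₁ : ∀ g ∈ Q₁, g * g = 1) (CQ₂ : T ⊓ centralizer (Q₂ : Set G) ≤ Q₂) {q₁ q₂ : G}
    (h1 : q₁ ∈ Q₁) (h2 : q₂ ∈ T) (h2' : q₂ ∉ Q₁) (hc : q₁ * q₂ = q₂ * q₁) : q₁ ∈ Q₂ := by
  have hle : Q₁ ≤ T ⊓ centralizer {q₁} := by
    intro x hx
    exact ⟨hQT₁ hx, mem_centralizer_singleton_iff.2 (comm_of_sq e₁ hx h1)⟩
  rcases JC.eq_or_eq_of_relIndex_prime Nat.prime_two hle inf_le_left hi₁ with h | h
  · exact absurd (h ▸ (⟨h2, mem_centralizer_singleton_iff.2 hc.symm⟩ : q₂ ∈ T ⊓ centralizer {q₁})) h2'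
  · apply CQ₂
    refine ⟨hQT₁ h1, mem_centralizer_iff.2 ?_⟩
    intro y hy
    have : y ∈ T ⊓ centralizer {q₁} := by rw [h]; exact hQT₂ hy
    exact mem_centralizer_singleton_iff.1 this.2

theorem bas {P₁ P₂ T : Subgroup G} {c₁ c₂ : G} (c : CB P₁ P₂ T c₁ c₂) : CBF P₁ P₂ T c₁ c₂ := by
  have s₁ : Side P₁ P₂ T c₁ := side P₂ c.c0.h.syl₁ c.c0.h.h6₁ c.c0.h.hchar₁ c.c0.e₁ c.c0.m₁ c.k₁ c.i₁
    c.c₁Q c.c₁P c.c₁1
  have s₂ : Side P₂ P₁ T c₂ := side P₁ c.c0.h.syl₂ c.c0.h.h6₂ c.c0.h.hchar₂ c.c0.e₂ c.c0.m₂ c.k₂ c.i₂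
    c.c₂Q c.c₂P c.c₂1
  have hTP₁ : T ≤ P₁ := c.c0.h.syl₁.1
  have hTP₂ : T ≤ P₂ := c.c0.h.syl₂.1
  have cardT : Nat.card ↥T = 16 := by
    have := card_mul_relIndex' s₁.QT
    rw [c.k₁, s₁.ind] at this
    omega
  have cardP₁ : Nat.card ↥P₁ = 48 := by
    have := card_mul_relIndex' hTP₁
    rw [cardT, s₁.ind3] at this
    omega
  have cardP₂ : Nat.card ↥P₂ = 48 := by
    have := card_mul_relIndex' hTP₂
    rw [cardT, s₂.ind3] at this
    omega
  have Qne : QQ P₁ ≠ QQ P₂ := by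
    intro h
    have h1 := c.c0.h.hcore (QQ P₁) s₁.QT (le_normalizer_pCoreOf 2 P₁)
      (by rw [h]; exact le_normalizer_pCoreOf 2 P₂)
    have h2 := c.k₁
    rw [h1] at h2
    simp at h2
  have n12 : ¬ QQ P₁ ≤ QQ P₂ := not_le_of_relIndex_two s₂.QT s₁.ind s₂.ind Qne
  have n21 : ¬ QQ P₂ ≤ QQ P₁ := not_le_of_relIndex_two s₁.QT s₂.ind s₁.ind Qne.symm
  have sup : QQ P₁ ⊔ QQ P₂ = T := by
    rcases JC.eq_or_eq_of_relIndex_prime Nat.prime_two (le_sup_left : QQ P₁ ≤ QQ P₁ ⊔ QQ P₂)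
      (sup_le s₁.QT s₂.QT) s₁.ind with h | h
    · exact absurd (h ▸ (le_sup_right : QQ P₂ ≤ QQ P₁ ⊔ QQ P₂)) n21
    · exact h
  have hc₁T : c₁ ∈ T := s₁.QT c.c₁Q
  have hc₂T : c₂ ∈ T := s₂.QT c.c₂Q
  have hc₁2 : c₁ ∈ QQ P₂ := by
    apply s₂.CQ
    refine ⟨hc₁T, mem_centralizer_iff.2 ?_⟩
    intro y hy
    exact mem_centralizer_singleton_iff.1 (c.c₁P (hTP₁ (s₂.QT hy)))
  have hc₂1 : c₂ ∈ QQ P₁ := by
    apply s₁.CQ
    refine ⟨hc₂T, mem_centralizer_iff.2 ?_⟩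
    intro y hy
    exact mem_centralizer_singleton_iff.1 (c.c₂P (hTP₂ (s₁.QT hy)))
  have hcc₁ : c₁ * c₁ = 1 := c.c0.e₁ c₁ c.c₁Q
  have hcc₂ : c₂ * c₂ = 1 := c.c0.e₂ c₂ c.c₂Q
  have cne : c₁ ≠ c₂ := by
    intro h
    have h1 := c.c0.h.hcore (zpowers c₁) (by rw [zpowers_le]; exact hc₁T)
      (by rw [← centralizer_eq_normalizer_zpowers hcc₁ c.c₁1]; exact c.c₁P)
      (by rw [← centralizer_eq_normalizer_zpowers hcc₁ c.c₁1, h]; exact c.c₂P)
    rw [zpowers_eq_bot] at h1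
    exact c.c₁1 h1
  have cardD : Nat.card ↥(QQ P₁ ⊓ QQ P₂) = 4 := by
    have h1 := relIndex_inf_two s₁.QT s₂.QT s₁.ind s₂.ind Qne
    have h2 := card_mul_relIndex' (inf_le_left : QQ P₁ ⊓ QQ P₂ ≤ QQ P₁)
    rw [h1, c.k₁] at h2
    omega
  have D : ∀ g, g ∈ QQ P₁ ⊓ QQ P₂ ↔ g = 1 ∨ g = c₁ ∨ g = c₂ ∨ g = c₁ * c₂ := by
    classical
    have hsub : (({1, c₁, c₂, c₁ * c₂} : Finset G) : Set G) ⊆ ((QQ P₁ ⊓ QQ P₂ : Subgroup G) : Set G) := by
      intro x hx
      simp only [Finset.coe_insert, Finset.coe_singleton, Set.mem_insert_iff,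
        Set.mem_singleton_iff] at hx
      rcases hx with rfl | rfl | rfl | rfl
      · exact one_mem _
      · exact ⟨c.c₁Q, hc₁2⟩
      · exact ⟨hc₂1, c.c₂Q⟩
      · exact mul_mem ⟨c.c₁Q, hc₁2⟩ ⟨hc₂1, c.c₂Q⟩
    have hcard : ({1, c₁, c₂, c₁ * c₂} : Finset G).card = 4 := by
      rw [Finset.card_insert_of_notMem, Finset.card_insert_of_notMem, Finset.card_insert_of_notMem,
        Finset.card_singleton]
      · simp only [Finset.mem_singleton]
        intro h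
        apply c.c₁1
        have := congrArg (fun y => y * c₂⁻¹) h
        simpa using this.symm
      · simp only [Finset.mem_insert, Finset.mem_singleton, not_or]
        refine ⟨cne, fun h => c.c₂1 ?_⟩
        have := congrArg (fun y => c₁⁻¹ * y) h
        simpa using this.symm
      · simp only [Finset.mem_insert, Finset.mem_singleton, not_or]
        refine ⟨fun h => c.c₁1 h.symm, fun h => c.c₂1 h.symm, fun h => cne ?_⟩
        calc c₁ = c₁ * (c₂ * c₂) := by rw [hcc₂, mul_one]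
          _ = (c₁ * c₂) * c₂ := by group
          _ = c₂ := by rw [← h, one_mul]
    have heq := Set.eq_of_subset_of_ncard_le hsub (by
      rw [Set.ncard_coe_finset, hcard]
      have : ((QQ P₁ ⊓ QQ P₂ : Subgroup G) : Set G).ncard = Nat.card ↥(QQ P₁ ⊓ QQ P₂) := rfl
      rw [this, cardD]) (Set.toFinite _)
    intro g
    rw [← SetLike.mem_coe, ← heq]
    simp
  have Dc : QQ P₁ ⊓ QQ P₂ ≤ centralizer (T : Set G) := by
    intro d hd
    have hle : QQ P₁ ⊔ QQ P₂ ≤ centralizer {d} := by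
      apply sup_le
      · intro x hx
        exact mem_centralizer_singleton_iff.2 (comm_of_sq c.c0.e₁ hx hd.1)
      · intro x hx
        exact mem_centralizer_singleton_iff.2 (comm_of_sq c.c0.e₂ hx hd.2)
    rw [sup] at hle
    rw [mem_centralizer_iff]
    intro y hy
    exact mem_centralizer_singleton_iff.1 (hle hy)
  have inv : ∀ v ∈ T, v * v = 1 → v ∈ QQ P₁ ∨ v ∈ QQ P₂ := by
    intro v hv hvv
    by_contra hcon
    push Not at hcon
    obtain ⟨q₁, hq₁, hq₁'⟩ := SetLike.not_le_iff_exists.1 n12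
    have hq₂ : v * q₁ ∈ QQ P₂ :=
      (mul_mem_iff_of_relIndex_two s₂.ind hv (s₁.QT hq₁)).2
        ⟨fun h => absurd h hcon.2, fun h => absurd h hq₁'⟩
    have hq₂' : v * q₁ ∉ QQ P₁ := by
      intro h
      apply hcon.1
      have := (QQ P₁).mul_mem h ((QQ P₁).inv_mem hq₁)
      simpa using this
    apply hq₁'
    refine mem_of_comm s₁.QT s₂.QT s₁.ind c.c0.e₁ s₂.CQ hq₁ (s₂.QT hq₂) hq₂' ?_
    have h1 := c.c0.e₂ _ hq₂
    have h2 := c.c0.e₁ _ hq₁
    -- v q₁ v q₁ = 1, v v = 1, q₁ q₁ = 1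
    calc q₁ * (v * q₁) = (v * v) * q₁ * (v * q₁) := by rw [hvv, one_mul]
      _ = v * ((v * q₁) * (v * q₁)) := by group
      _ = v * (q₁ * q₁) := by rw [h1, h2]
      _ = v * q₁ * q₁ := by group
  have zc : c₁ * c₂ ∈ ⁅T, T⁆ := by
    obtain ⟨q₁, hq₁, hq₁'⟩ := SetLike.not_le_iff_exists.1 n12
    obtain ⟨q₂, hq₂, hq₂'⟩ := SetLike.not_le_iff_exists.1 n21
    have hx : ⁅q₁, q₂⁆ ∈ ⁅T, T⁆ := commutator_mem_commutator (s₁.QT hq₁) (s₂.QT hq₂)
    have hn₁ : T ≤ normalizer (QQ P₁ : Set G) := hTP₁.trans (le_normalizer_pCoreOf 2 P₁)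
    have hn₂ : T ≤ normalizer (QQ P₂ : Set G) := hTP₂.trans (le_normalizer_pCoreOf 2 P₂)
    have hxD : ⁅q₁, q₂⁆ ∈ QQ P₁ ⊓ QQ P₂ := by
      constructor
      · rw [commutatorElement_def]
        have h1 := (mem_normalizer_iff.1 (hn₁ (s₂.QT hq₂)) q₁⁻¹).1 ((QQ P₁).inv_mem hq₁)
        have := (QQ P₁).mul_mem hq₁ h1
        simpa [mul_assoc] using this
      · rw [commutatorElement_def]
        have h1 := (mem_normalizer_iff.1 (hn₂ (s₁.QT hq₁)) q₂).1 hq₂
        exact (QQ P₂).mul_mem h1 ((QQ P₂).inv_mem hq₂)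
    rcases (D _).1 hxD with h | h | h | h
    · exfalso
      apply hq₁'
      refine mem_of_comm s₁.QT s₂.QT s₁.ind c.c0.e₁ s₂.CQ hq₁ (s₂.QT hq₂) hq₂' ?_
      exact commutatorElement_eq_one_iff_mul_comm.1 h
    · exact absurd (h ▸ commutator_mono hTP₁ hTP₁ hx) s₁.nc
    · exact absurd (h ▸ commutator_mono hTP₂ hTP₂ hx) s₂.nc
    · exact h ▸ hx
  exact ⟨s₁.QT, s₂.QT, s₁.ind, s₂.ind, cardT, cardP₁, cardP₂, Qne, sup, cne, D, Dc, s₁.CQ, s₂.CQ,
    s₁.NQ, s₂.NQ, s₁.Cc, s₂.Cc, inv, s₁.max, s₂.max, s₁.nc, s₂.nc, zc⟩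

end Cfsg.Agent.Lib.Helper86.KS18
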