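import Cfsg.Agent.Lib.Helper86.KS18BAS
import Cfsg.Agent.Lib.Helper53.WeakClosed

set_option autoImplicit false

/-! Ladder KS18 (S0518), rung SYL: the structure of a Sylow 2-subgroup containing `T`. -/

namespace Cfsg.Agent.Lib.Helper86.KS18

open Cfsg Subgroup
open scoped commutatorElement
open Cfsg.Agent.Lib.Helper53 Cfsg.Agent.Lib.Helper53.KS18
open Cfsg.Agent.Lib.Helper53.JC (cjj QQ)
open Cfsg.Agent.Lib.Helper53.SA2 (BHyp)
open Cfsg.Agent.Lib.Helper36.BA (card_mul_relIndex' mul_mem_iff_of_relIndex_two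
  not_le_of_relIndex_two relIndex_inf_two)

set_option linter.unusedSectionVars false

variable {G : Type*} [Group G] [Finite G]

/-- an elementary abelian subgroup of order 8 of `T` is `Q₁` or `Q₂` -/
theorem e8 {P₁ P₂ T : Subgroup G} {c₁ c₂ : G} (c : CB P₁ P₂ T c₁ c₂) (f : CBF P₁ P₂ T c₁ c₂)
    {A : Subgroup G} (hAT : A ≤ T) (he : ∀ a ∈ A, a * a = 1) (hc : Nat.card ↥A = 8) :
    A = QQ P₁ ∨ A = QQ P₂ := by
  have h : (A : Set G) ⊆ (QQ P₁ : Set G) ∪ (QQ P₂ : Set G) := fun a ha => f.inv a (hAT ha) (he a ha)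
  rcases SubgroupClass.subset_union.1 h with h1 | h1
  · left; exact Subgroup.eq_of_le_of_card_ge h1 (by rw [hc, c.k₁])
  · right; exact Subgroup.eq_of_le_of_card_ge h1 (by rw [hc, c.k₂])

theorem sq_cjj {Q : Subgroup G} (e : ∀ g ∈ Q, g * g = 1) (v : G) : ∀ a ∈ cjj v Q, a * a = 1 := by
  rintro _ ⟨q, hq, rfl⟩
  have := e q hq
  simp only [MulEquiv.coe_toMonoidHom, MulAut.conj_apply]
  calc v * q * v⁻¹ * (v * q * v⁻¹) = v * (q * q) * v⁻¹ := by group
    _ = 1 := by rw [this]; group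

theorem mem_T₁ {P₁ P₂ T : Subgroup G} {c₁ c₂ : G} (c : CB P₁ P₂ T c₁ c₂) (f : CBF P₁ P₂ T c₁ c₂)
    (S : Sylow 2 G) (hTS : T ≤ (S : Subgroup G)) {y : G} (hy : y ∈ (S : Subgroup G)) (hyP : y ∈ P₁) :
    y ∈ T := by
  have h := f.max₁ (T ⊔ zpowers y) (S.isPGroup'.to_le (sup_le hTS (zpowers_le.2 hy))) le_sup_left
    (sup_le c.c0.h.syl₁.1 (zpowers_le.2 hyP))
  rw [← h]
  exact (le_sup_right : zpowers y ≤ T ⊔ zpowers y) (mem_zpowers y)

theorem cbf_symm {P₁ P₂ T : Subgroup G} {c₁ c₂ : G} (c : CB P₁ P₂ T c₁ c₂) (_f : CBF P₁ P₂ T c₁ c₂) :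
    CBF P₂ P₁ T c₂ c₁ := bas c.symm

/-- elements of `S ⊓ N(T)` outside `T` swap `Q₁` and `Q₂` -/
theorem swap₁ {P₁ P₂ T : Subgroup G} {c₁ c₂ : G} (c : CB P₁ P₂ T c₁ c₂) (f : CBF P₁ P₂ T c₁ c₂)
    (S : Sylow 2 G) (hTS : T ≤ (S : Subgroup G)) {y : G} (hy : y ∈ (S : Subgroup G))
    (hyN : y ∈ normalizer (T : Set G)) (hyT : y ∉ T) : cjj y (QQ P₁) = QQ P₂ := by
  have h1 : cjj y (QQ P₁) ≤ T := by
    rw [← cj_eq_self_iff.2 hyN]
    exact cj_mono y f.QT₁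
  rcases e8 c f h1 (sq_cjj c.c0.e₁ y) (by rw [card_cj, c.k₁]) with h | h
  · exfalso
    apply hyT
    apply mem_T₁ c f S hTS hy
    rw [← f.NQ₁]
    exact cj_eq_self_iff.1 h
  · exact h

theorem syl {P₁ P₂ T : Subgroup G} {c₁ c₂ : G} (c : CB P₁ P₂ T c₁ c₂) (f : CBF P₁ P₂ T c₁ c₂)
    (S : Sylow 2 G) (hTS : T ≤ (S : Subgroup G)) : SF P₁ P₂ T (S : Subgroup G) := by
  have f' := cbf_symm c f
  have sw₁ : ∀ y ∈ (S : Subgroup G), y ∈ normalizer (T : Set G) → y ∉ T → cjj y (QQ P₁) = QQ P₂ :=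
    fun y hy hyN hyT => swap₁ c f S hTS hy hyN hyT
  have sw₂ : ∀ y ∈ (S : Subgroup G), y ∈ normalizer (T : Set G) → y ∉ T → cjj y (QQ P₂) = QQ P₁ :=
    fun y hy hyN hyT => swap₁ c.symm f' S hTS hy hyN hyT
  have ind : ∀ a ∈ (S : Subgroup G), ∀ b ∈ (S : Subgroup G), a ∈ normalizer (T : Set G) →
      b ∈ normalizer (T : Set G) → a ∉ T → b ∉ T → a * b ∈ T := by
    intro a ha b hb haN hbN haT hbT
    apply mem_T₁ c f S hTS (mul_mem ha hb)
    rw [← f.NQ₁, ← cj_eq_self_iff, ← cj_cj]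
    have e1 := sw₁ b hb hbN hbT
    have e2 := sw₂ a ha haN haT
    unfold cjj at e1 e2
    rw [e1, e2]
  have cardD : Nat.card ↥(QQ P₁ ⊓ QQ P₂) = 4 := by
    have h1 := relIndex_inf_two f.QT₁ f.QT₂ f.ind₁ f.ind₂ f.Qne
    have h2 := card_mul_relIndex' (inf_le_left : QQ P₁ ⊓ QQ P₂ ≤ QQ P₁)
    rw [h1, c.k₁] at h2
    omega
  -- key: a conjugate of `Q_i` inside `N1` lies in `T`
  have key : ∀ A : Subgroup G, A ≤ (S : Subgroup G) ⊓ normalizer (T : Set G) →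
      (∀ a ∈ A, a * a = 1) → Nat.card ↥A = 8 → A ≤ T := by
    intro A hA he hc
    by_contra hcon
    obtain ⟨a, haA, haT⟩ := SetLike.not_le_iff_exists.1 hcon
    have haS := (hA haA).1
    have haN := (hA haA).2
    have hi : (A ⊓ T).relIndex A = 2 := by
      rw [inf_relIndex_left, relIndex_eq_two_iff]
      refine ⟨a, haA, fun b hb => ?_⟩
      by_cases hbT : b ∈ T
      · right
        refine ⟨hbT, fun h => haT ?_⟩
        have := T.mul_mem (T.inv_mem hbT) h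
        simpa using this
      · left
        exact ⟨ind b (hA hb).1 a haS (hA hb).2 haN hbT haT, hbT⟩
    have hcard : Nat.card ↥(A ⊓ T) = 4 := by
      have h2 := card_mul_relIndex' (inf_le_left : A ⊓ T ≤ A)
      rw [hi, hc] at h2
      omega
    have hfix : ∀ x ∈ A, a * x * a⁻¹ = x := by
      intro x hx
      rw [comm_of_sq he haA hx]; group
    have hsub : ((A ⊓ T : Subgroup G) : Set G) ⊆ (QQ P₁ : Set G) ∪ (QQ P₂ : Set G) :=
      fun x hx => f.inv x hx.2 (he x hx.1)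
    have hD : A ⊓ T ≤ QQ P₁ ⊓ QQ P₂ := by
      rcases SubgroupClass.subset_union.1 hsub with h1 | h1
      · intro x hx
        refine ⟨h1 hx, ?_⟩
        rw [← sw₁ a haS haN haT, ← hfix x hx.1]
        exact cj_mem a (h1 hx)
      · intro x hx
        refine ⟨?_, h1 hx⟩
        rw [← sw₂ a haS haN haT, ← hfix x hx.1]
        exact cj_mem a (h1 hx)
    have hDeq : A ⊓ T = QQ P₁ ⊓ QQ P₂ := Subgroup.eq_of_le_of_card_ge hD (by rw [hcard, cardD])
    have hc₁ : c₁ ∈ A ⊓ T := by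
      rw [hDeq, f.D]; right; left; rfl
    apply haT
    apply mem_T₁ c f S hTS haS
    rw [← f.Cc₁, mem_centralizer_singleton_iff]
    have := hfix c₁ hc₁.1
    calc a * c₁ = a * c₁ * a⁻¹ * a := by group
      _ = c₁ * a := by rw [this]
  have hN1 : (S : Subgroup G) ⊓ normalizer (T : Set G) = (S : Subgroup G) := by
    by_contra hne
    have hlt : (S : Subgroup G) ⊓ normalizer (T : Set G) < (S : Subgroup G) :=
      lt_of_le_of_ne inf_le_left hne
    have h2 := lt_inf_normalizer S.isPGroup' hlt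
    obtain ⟨v, hv, hv'⟩ := SetLike.exists_of_lt h2
    apply hv'
    suffices hh : v ∈ normalizer (T : Set G) from ⟨hv.1, hh⟩
    have hvN := cj_eq_self_iff.2 hv.2
    have hTN1 : T ≤ (S : Subgroup G) ⊓ normalizer (T : Set G) := le_inf hTS le_normalizer
    have h3 : cjj v (QQ P₁) ≤ T := by
      apply key _ _ (sq_cjj c.c0.e₁ v) (by rw [card_cj, c.k₁])
      rw [← hvN]
      exact cj_mono v (f.QT₁.trans hTN1)
    have h4 : cjj v (QQ P₂) ≤ T := by
      apply key _ _ (sq_cjj c.c0.e₂ v) (by rw [card_cj, c.k₂])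
      rw [← hvN]
      exact cj_mono v (f.QT₂.trans hTN1)
    rw [← cj_eq_self_iff]
    apply cj_eq_of_le
    rw [← f.sup, cj_sup]
    rw [f.sup]
    exact sup_le h3 h4
  have nT : (S : Subgroup G) ≤ normalizer (T : Set G) := by
    rw [← hN1]; exact inf_le_right
  exact ⟨nT, fun a ha haT => sw₁ a ha (nT ha) haT, fun a ha haT => sw₂ a ha (nT ha) haT,
    fun a ha b hb haT hbT => ind a ha b hb (nT ha) (nT hb) haT hbT⟩

end Cfsg.Agent.Lib.Helper86.KS18
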