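import Mathlib

set_option autoImplicit false

namespace Cfsg.Agent.Lib.Helper86.Rank2

/-- `z` lies in the centre of `D`. -/
def CenD {T : Type*} [Group T] (D : Subgroup T) (z : T) : Prop := z ∈ D ∧ ∀ x ∈ D, z * x = x * z

end Cfsg.Agent.Lib.Helper86.Rank2
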