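import Cfsg.Agent.Lib.Helper86.Rank2Chain
import Cfsg.Agent.Lib.Helper90.SmallExp
import Cfsg.Agent.Lib.Helper16.Rank2G4
import Cfsg.Agent.Lib.Helper3.PGroup

set_option autoImplicit false

namespace Cfsg.Agent.Lib.Helper86.Rank2

open Cfsg Cfsg.FusionSystem Cfsg.Agent.Lib

/-- A set of pairwise commuting elements of order dividing `p` generates an elementary abelian group. -/
theorem isElementaryAbelian_closure {G : Type*} [Group G] {p : ℕ} {k : Set G}
    (hcomm : ∀ x ∈ k, ∀ y ∈ k, x * y = y * x) (hexp : ∀ x ∈ k, x ^ p = 1) :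
    Cfsg.IsElementaryAbelian p (Subgroup.closure k) := by
  have hc := Subgroup.isMulCommutative_closure hcomm
  refine ⟨hc, fun a ha => ?_⟩
  induction ha using Subgroup.closure_induction with
  | mem x hx => exact hexp x hx
  | one => exact one_pow _
  | mul x y hx hy h1 h2 =>
    have hxy : Commute x y := by
      have := hc.is_comm.comm ⟨x, hx⟩ ⟨y, hy⟩
      exact congrArg Subtype.val this
    rw [hxy.mul_pow, h1, h2, one_mul]
  | inv x hx h1 => rw [inv_pow, h1, inv_one]

variable {Ω : Type*} [Group Ω] {S : Subgroup Ω}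

/-- transfer of the rank hypothesis along an injective homomorphism into `S` -/
theorem prankLE_of_injective {p : ℕ}
    (hrank : ∀ B : Subgroup Ω, B ≤ S → Cfsg.IsElementaryAbelian p B → Nat.card B ≤ p ^ 2)
    {H : Type*} [Group H] (f : H →* Ω) (hf : Function.Injective f) (hfS : ∀ x, f x ∈ S) :
    Cfsg.PRankLE p 2 H := by
  intro A hA hAe
  have h1 : Cfsg.IsElementaryAbelian p (A.map f) := by
    refine ⟨⟨⟨?_⟩⟩, ?_⟩
    · rintro ⟨_, x, hx, rfl⟩ ⟨_, y, hy, rfl⟩
      apply Subtype.ext
      have := congrArg Subtype.val (hA.is_comm.comm ⟨x, hx⟩ ⟨y, hy⟩)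
      change f x * f y = f y * f x
      rw [← map_mul, ← map_mul]
      exact congrArg f this
    · rintro _ ⟨x, hx, rfl⟩
      rw [← map_pow, hAe x hx, map_one]
  have h2 := hrank (A.map f) (by rintro _ ⟨x, _, rfl⟩; exact hfS x) h1
  rwa [Subgroup.card_map_of_injective hf] at h2

theorem char_apply_mem {G : Type*} [Group G] {D : Subgroup G} (hD : D.Characteristic)
    (α : MulAut G) {x : G} (hx : x ∈ D) : α x ∈ D := by
  have := (hD.fixed α).ge hx
  exact this

/-- F0 -/
theorem dichotomy [Finite S] {p : ℕ} [Fact p.Prime] (hS : IsPGroup p S)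
    (F : FusionSystem S) (hF : F.IsSaturated p) (hp : p ≠ 2)
    (hrank : ∀ B : Subgroup Ω, B ≤ S → Cfsg.IsElementaryAbelian p B → Nat.card B ≤ p ^ 2)
    {E : Subgroup Ω} (hE : F.IsEssential p E) :
    ∃ D : Subgroup ↥E, D.Characteristic ∧ (∀ x ∈ D, x ^ p = 1) ∧
      (∀ a : MulAut ↥E, (orderOf a).Coprime p → (∀ x ∈ D, a x = x) → a = 1) ∧
      ((Nat.card D = p ^ 2 ∧ D ≤ Subgroup.center ↥E ∧ ∀ x : ↥E, x ^ p = 1 → x ∈ D) ∨
        Nat.card D = p ^ 3) := by
  have hpp : p.Prime := Fact.out
  have : Finite E := finite_of_le hE.1.1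
  have hEp : IsPGroup p E := hS.to_le hE.1.1
  obtain ⟨D, hDch, hDe', hDf⟩ := Helper90.exists_char_small hEp
  have hDe : ∀ x ∈ D, x ^ p = 1 := fun x hx => (hDe' x hx).resolve_right (fun h => hp h.1)
  have hrkE : Cfsg.PRankLE p 2 ↥E :=
    prankLE_of_injective hrank E.subtype E.subtype_injective (fun x => hE.1.1 x.2)
  have hrkD : Cfsg.PRankLE p 2 ↥D :=
    prankLE_of_injective hrank (E.subtype.comp D.subtype)
      (E.subtype_injective.comp D.subtype_injective) (fun x => hE.1.1 x.1.2)
  have hdvd : Nat.card D ∣ p ^ 3 :=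
    Helper16.Rank2.card_dvd_of_exponent (fun x => Subtype.ext (hDe x.1 x.2)) hrkD
  obtain ⟨k, hk3, hk⟩ := (Nat.dvd_prime_pow hpp).1 hdvd
  refine ⟨D, hDch, hDe, hDf, ?_⟩
  have hfD : ∀ a ∈ F.autGroup E, (orderOf a).Coprime p → (∀ x ∈ D, a x = x) → a = 1 :=
    fun a _ => hDf a
  have hbot : ∀ α : MulAut ↥E, ∀ x ∈ (⊥ : Subgroup ↥E), α x ∈ (⊥ : Subgroup ↥E) := by
    intro α x hx
    rw [Subgroup.mem_bot] at hx ⊢
    rw [hx, map_one]
  interval_cases k
  · -- D trivial
    exfalso
    have hD : D = ⊥ := Subgroup.card_eq_one.1 (by simpa using hk)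
    refine no_prime_chain hS F hF hE 0 (fun _ => ⊥) rfl (fun _ α _ => hbot α) ?_ (by simp)
    intro a ha hc h
    exact hfD a ha hc (by rw [hD]; exact h)
  · exfalso
    refine no_prime_chain hS F hF hE 1 (fun i => if i = 0 then ⊥ else D) (by simp) ?_ ?_ ?_
    · intro i α _
      by_cases hi : i = 0
      · simp only [hi, if_true]; exact hbot α
      · simp only [hi, if_false]; exact fun x hx => char_apply_mem hDch α hx
    · simpa using hfD
    · intro i hi
      obtain rfl : i = 0 := by omega
      simp [hk]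
  · by_cases hDZ : D ≤ Subgroup.center ↥E
    · left
      refine ⟨hk, hDZ, fun x hx => ?_⟩
      have hel : Cfsg.IsElementaryAbelian p (Subgroup.closure ((D : Set ↥E) ∪ {x})) := by
        apply isElementaryAbelian_closure
        · rintro a (ha | ha) b hb
          · exact ((Subgroup.mem_center_iff.1 (hDZ ha)) b).symm
          · rcases hb with hb | hb
            · exact (Subgroup.mem_center_iff.1 (hDZ hb)) a
            · rw [Set.mem_singleton_iff.1 ha, Set.mem_singleton_iff.1 hb]
        · rintro a (ha | ha)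
          · exact hDe a ha
          · rw [Set.mem_singleton_iff.1 ha]; exact hx
      have hle : D ≤ Subgroup.closure ((D : Set ↥E) ∪ {x}) :=
        fun a ha => Subgroup.subset_closure (Or.inl ha)
      have hcard := hrkE _ hel.1 hel.2
      have heq : D = Subgroup.closure ((D : Set ↥E) ∪ {x}) :=
        Subgroup.eq_of_le_of_card_ge hle (by rw [hk]; exact hcard)
      rw [heq]
      exact Subgroup.subset_closure (Or.inr rfl)
    · exfalso
      set L : Subgroup ↥E := D ⊓ Subgroup.center ↥E with hL
      have hDn : D.Normal := inferInstance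
      have hDne : D ≠ ⊥ := by
        intro h
        rw [h, Subgroup.card_bot] at hk
        have := hpp.one_lt
        nlinarith
      have hLne : L ≠ ⊥ := Helper3.normal_inf_center_ne_bot' hEp D hDne
      have hLle : L ≤ D := inf_le_left
      have hLc : Nat.card L = p := by
        have h1 : Nat.card L ∣ p ^ 2 := hk ▸ Subgroup.card_dvd_of_le hLle
        obtain ⟨j, hj2, hj⟩ := (Nat.dvd_prime_pow hpp).1 h1
        interval_cases j
        · exact absurd (Subgroup.card_eq_one.1 (by simpa using hj)) hLne
        · simpa using hj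
        · exfalso
          have : L = D := Subgroup.eq_of_le_of_card_ge hLle (by rw [hk, hj])
          exact hDZ (this ▸ inf_le_right)
      have hLinv : ∀ α : MulAut ↥E, ∀ x ∈ L, α x ∈ L := by
        intro α x hx
        exact ⟨char_apply_mem hDch α hx.1, char_apply_mem inferInstance α hx.2⟩
      refine no_prime_chain hS F hF hE 2
        (fun i => if i = 0 then ⊥ else if i = 1 then L else D) (by simp) ?_ ?_ ?_
      · intro i α _
        by_cases hi : i = 0
        · simp only [hi, if_true]; exact hbot α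
        · by_cases hi1 : i = 1
          · simp only [hi1, one_ne_zero, if_true, if_false]; exact hLinv α
          · simp only [hi, hi1, if_false]; exact fun x hx => char_apply_mem hDch α hx
      · simpa using hfD
      · intro i hi
        have : i = 0 ∨ i = 1 := by omega
        rcases this with rfl | rfl
        · simp [hLc]
        · simp [hLc, hk, hLle, pow_two]
  · right; exact hk

end Cfsg.Agent.Lib.Helper86.Rank2
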