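import Cfsg.Agent.Lib.Helper86.Rank2Chain
import Cfsg.Agent.Lib.Helper87.Alperin

set_option autoImplicit false

namespace Cfsg.Agent.Lib.Helper86.Rank2

open Cfsg Cfsg.FusionSystem Cfsg.Agent.Lib
open Cfsg.Agent.Lib.Helper87 (Mor Iso autFun)

/-- G8: order of a cyclic extension of prime index -/
theorem card_eq_of_cyclic_ext {T : Type*} [Group T] {p : ℕ} [hp : Fact p.Prime]
    (E : Subgroup T) [E.Normal] (c : T) (hc : c ∉ E) (hcp : c ^ p ∈ E)
    (hgen : ∀ g : T, ∃ i : ℤ, g * c ^ i ∈ E) : Nat.card T = p * Nat.card E := by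
  have h1 : orderOf (QuotientGroup.mk c : T ⧸ E) = p := by
    apply orderOf_eq_prime
    · rw [← QuotientGroup.mk_pow]; exact (QuotientGroup.eq_one_iff _).2 hcp
    · intro h; exact hc ((QuotientGroup.eq_one_iff _).1 h)
  have h2 : Subgroup.zpowers (QuotientGroup.mk c : T ⧸ E) = ⊤ := by
    rw [eq_top_iff]
    intro q _
    obtain ⟨g, rfl⟩ := QuotientGroup.mk_surjective q
    obtain ⟨i, hi⟩ := hgen g
    refine ⟨-i, ?_⟩
    have h3 : (QuotientGroup.mk (g * c ^ i) : T ⧸ E) = 1 := (QuotientGroup.eq_one_iff _).2 hi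
    rw [QuotientGroup.mk_mul, QuotientGroup.mk_zpow] at h3
    show (QuotientGroup.mk c : T ⧸ E) ^ (-i) = _
    rw [zpow_neg]
    exact (eq_inv_of_mul_eq_one_left h3).symm
  have h3 : Nat.card (T ⧸ E) = p := by
    rw [← h1, ← Nat.card_zpowers, h2, Subgroup.card_top]
  rw [Subgroup.card_eq_card_quotient_mul_card_subgroup E, h3]

variable {Ω : Type*} [Group Ω] {S : Subgroup Ω}

/-- an element of `N_S(E) ∖ E` whose `p`-th power lies in `E` -/
theorem exists_growth_pow [Finite S] {p : ℕ} [Fact p.Prime] (hS : IsPGroup p S) {E : Subgroup Ω}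
    (hE : E < S) : ∃ c ∈ S, c ∈ Subgroup.normalizer (E : Set Ω) ∧ c ∉ E ∧ c ^ p ∈ E := by
  classical
  obtain ⟨g, hgS, hgN, hgE⟩ := exists_normalizer_growth hS hE
  have hex : ∃ k : ℕ, g ^ (p ^ k) ∈ E := by
    obtain ⟨k, hk⟩ := hS ⟨g, hgS⟩
    refine ⟨k, ?_⟩
    have : g ^ (p ^ k) = 1 := by simpa using congrArg Subtype.val hk
    rw [this]; exact E.one_mem
  have hk0 : Nat.find hex ≠ 0 := by
    intro h
    have := Nat.find_spec hex
    rw [h] at this
    exact hgE (by simpa using this)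
  obtain ⟨j, hj⟩ := Nat.exists_eq_succ_of_ne_zero hk0
  refine ⟨g ^ (p ^ j), S.pow_mem hgS _, Subgroup.pow_mem _ hgN _, ?_, ?_⟩
  · exact Nat.find_min hex (by omega)
  · have := Nat.find_spec hex
    rw [hj, Nat.succ_eq_add_one, pow_succ, pow_mul] at this
    exact this

/-- powers of `conjAut` -/
theorem conjAut_pow (E : Subgroup Ω) (c : Ω) (hc : c ∈ Subgroup.normalizer (E : Set Ω)) (k : ℕ) :
    conjAut E c hc ^ k = conjAut E (c ^ k) (Subgroup.pow_mem _ hc k) := by
  unfold conjAut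
  rw [← map_pow]
  rfl

theorem conjAut_zpow (E : Subgroup Ω) (c : Ω) (hc : c ∈ Subgroup.normalizer (E : Set Ω)) (k : ℤ) :
    conjAut E c hc ^ k = conjAut E (c ^ k) (Subgroup.zpow_mem _ hc k) := by
  unfold conjAut
  rw [← map_zpow]
  rfl

/-- an element of `S` centralizing a centric subgroup lies in it -/
theorem mem_of_centralizes {F : FusionSystem S} {E : Subgroup Ω} (hE : F.IsCentric E) {g : Ω}
    (hgS : g ∈ S) (h : ∀ x ∈ E, g * x * g⁻¹ = x) : g ∈ E := by
  refine hE.2 E (isConj_refl F hE.1) ?_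
  rw [Helper87.mem_centralizerIn_iff]
  refine ⟨hgS, fun x hx => ?_⟩
  have := h x hx
  rw [mul_inv_eq_iff_eq_mul] at this
  exact this.symm

/-- An `F`-automorphism of a fully normalized subgroup `E` normalizing `Aut_S(E)` extends to an
`F`-automorphism of `N_S(E)`. -/
theorem exists_extension_normalizer [Finite S] {p : ℕ} [Fact p.Prime] (hS : IsPGroup p S)
    (F : FusionSystem S) (hF : F.IsSaturated p) {E : Subgroup Ω} (hE : F.IsFullyNormalized E)
    {δ : MulAut E} (hδ : δ ∈ F.autGroup E)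
    (hn : ∀ t ∈ autInducedBy S E, δ * t * δ⁻¹ ∈ autInducedBy S E) :
    ∃ δ₁ ∈ F.autGroup (normalizerIn S E), ∀ x ∈ E, autFun δ₁ x = autFun δ x := by
  have hrec := sat_receptive_of_fullyNormalized hS F hF hE
  obtain ⟨f', hf', hag⟩ := Helper87.extend_of_normalizes hrec ⊤ hδ
    (fun t ht => ⟨hn t ht.1, Subgroup.mem_top _⟩)
  have hle : normalizerIn S E ≤ E ⊔ Helper87.NK S E ⊤ := by
    intro g hg
    refine (le_sup_right : _ ≤ E ⊔ Helper87.NK S E ⊤) ?_
    exact ⟨hg.1, conjAut E g hg.2, Subgroup.mem_top _, fun x => rfl⟩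
  have hf := hf'.mono hle
  have : Finite (normalizerIn S E) := finite_of_le (Helper87.normalizerIn_le S E)
  have hEN : E ≤ normalizerIn S E := Helper87.le_normalizerIn hE.1
  have hself : ∀ x ∈ normalizerIn S E, f' x ∈ normalizerIn S E := by
    intro x hx
    refine hf.map_mem_normalizerIn hEN inf_le_right (fun y => ?_) hx
    constructor
    · intro hy
      refine ⟨autFun δ⁻¹ y, Helper87.autFun_mem _ hy, ?_⟩
      rw [hag _ (Helper87.autFun_mem _ hy), Helper87.autFun_apply _ hy, Helper87.autFun_coe]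
      simp
    · rintro ⟨x, hx, rfl⟩
      rw [hag x hx]
      exact Helper87.autFun_mem _ hx
  obtain ⟨δ₁, hδ₁, e⟩ := (hf.iso_self hself).exists_aut
  refine ⟨δ₁, hδ₁, fun x hx => ?_⟩
  rw [Helper87.autFun_apply _ (hEN hx), e, hag x hx]

end Cfsg.Agent.Lib.Helper86.Rank2
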