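import Cfsg.Agent.Lib.Helper86.Rank2Chain

set_option autoImplicit false

namespace Cfsg.Agent.Lib.Helper86.Rank2

/-- G7: a `p`-group of automorphisms of a group of order `p²` and exponent `p` is generated by any of its
nontrivial elements. -/
theorem mem_zpowers_of_isPGroup {W : Type*} [Group W] [Finite W] {p : ℕ} [hpf : Fact p.Prime]
    (hcard : Nat.card W = p ^ 2) (hexp : ∀ x : W, x ^ p = 1)
    (Q : Subgroup (MulAut W)) (hQ : IsPGroup p Q)
    (σ : MulAut W) (hσ : σ ∈ Q) (hσ1 : σ ≠ 1) : ∀ τ ∈ Q, τ ∈ Subgroup.zpowers σ := by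
  have hpp : p.Prime := hpf.out
  have hW : IsPGroup p W := IsPGroup.of_card hcard
  -- a common fixed point
  obtain ⟨e₁, he₁, hne⟩ := hQ.exists_fixed_point_of_prime_dvd_card_of_fixed_point (α := W)
    (by rw [hcard]; exact dvd_pow_self p (by norm_num)) (a := 1)
    (by intro q; exact map_one (q : MulAut W))
  have hfix : ∀ τ ∈ Q, τ e₁ = e₁ := fun τ hτ => he₁ ⟨τ, hτ⟩
  set L : Subgroup W := Subgroup.zpowers e₁ with hL
  have hLc : Nat.card L = p := by
    rw [Nat.card_zpowers]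
    exact orderOf_eq_prime (hexp e₁) (Ne.symm hne)
  have hLfix : ∀ τ ∈ Q, ∀ x ∈ L, τ x = x := by
    rintro τ hτ _ ⟨i, rfl⟩
    show τ (e₁ ^ i) = e₁ ^ i
    rw [map_zpow, hfix τ hτ]
  obtain ⟨e₂, he₂⟩ : ∃ e₂ : W, e₂ ∉ L := by
    by_contra h
    push Not at h
    have : L = ⊤ := eq_top_iff.2 (fun x _ => h x)
    rw [this, Subgroup.card_top, hcard] at hLc
    have := hpp.one_lt
    nlinarith
  have hstab : ∀ τ ∈ Q, e₂⁻¹ * τ e₂ ∈ L := by
    intro τ hτ
    obtain ⟨k, hk⟩ := hQ ⟨τ, hτ⟩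
    have hk' : τ ^ (p ^ k) = 1 := by simpa using congrArg Subtype.val hk
    refine stab_of_card_eq hW τ k hk' L ⊤ le_top ?_ (fun x hx => ?_) (fun x _ => Subgroup.mem_top _)
      e₂ (Subgroup.mem_top _)
    · rw [Subgroup.card_top, hcard, hLc, pow_two]
    · rw [hLfix τ hτ x hx]; exact hx
  have hone : ∀ τ ∈ Q, τ e₂ = e₂ → τ = 1 := by
    intro τ hτ h
    let Fx : Subgroup W :=
      { carrier := {x | τ x = x}
        mul_mem' := fun {a b} ha hb => by
          show τ (a * b) = a * b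
          rw [map_mul, ha, hb]
        one_mem' := map_one τ
        inv_mem' := fun {a} ha => by
          show τ a⁻¹ = a⁻¹
          rw [map_inv, ha] }
    have hLF : L ≤ Fx := fun x hx => hLfix τ hτ x hx
    have hF2 : e₂ ∈ Fx := h
    have hFtop : Fx = ⊤ := by
      have h1 : Nat.card Fx ∣ p ^ 2 := hcard ▸ Subgroup.card_subgroup_dvd_card Fx
      obtain ⟨j, hj2, hj⟩ := (Nat.dvd_prime_pow hpp).1 h1
      have hle : p ≤ Nat.card Fx := hLc ▸ Subgroup.card_le_of_le hLF
      interval_cases j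
      · exfalso
        have := hpp.one_lt
        rw [hj, pow_zero] at hle
        omega
      · exfalso
        have : L = Fx := Subgroup.eq_of_le_of_card_ge hLF (by rw [hLc, hj, pow_one])
        exact he₂ (this ▸ hF2)
      · exact Subgroup.eq_top_of_card_eq _ (by rw [hj, hcard])
    ext x
    have : x ∈ Fx := hFtop ▸ Subgroup.mem_top x
    exact this
  have hQc : Nat.card Q ≤ p := by
    rw [← hLc]
    refine Nat.card_le_card_of_injective
      (fun τ : Q => (⟨e₂⁻¹ * (τ : MulAut W) e₂, hstab τ τ.2⟩ : L)) ?_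
    intro τ₁ τ₂ h
    have h1 : (τ₁ : MulAut W) e₂ = (τ₂ : MulAut W) e₂ := by
      have := congrArg Subtype.val h
      exact mul_left_cancel this
    have h2 : ((τ₂ : MulAut W)⁻¹ * (τ₁ : MulAut W)) = 1 := by
      refine hone _ (Q.mul_mem (Q.inv_mem τ₂.2) τ₁.2) ?_
      rw [MulAut.mul_apply, h1, MulAut.inv_apply_self]
    apply Subtype.ext
    exact (inv_mul_eq_one.1 h2).symm
  have hzc : p ≤ Nat.card (Subgroup.zpowers σ) := by
    rw [Nat.card_zpowers]
    obtain ⟨k, hk⟩ := hQ ⟨σ, hσ⟩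
    have hk' : σ ^ (p ^ k) = 1 := by simpa using congrArg Subtype.val hk
    obtain ⟨j, _, hj⟩ := (Nat.dvd_prime_pow hpp).1 (orderOf_dvd_of_pow_eq_one hk')
    rw [hj]
    rcases Nat.eq_zero_or_pos j with rfl | hj0
    · exfalso
      rw [pow_zero, orderOf_eq_one_iff] at hj
      exact hσ1 hj
    · exact Nat.le_self_pow (by omega) p
  have heq : Subgroup.zpowers σ = Q :=
    Subgroup.eq_of_le_of_card_ge (Subgroup.zpowers_le.2 hσ) (hQc.trans hzc)
  intro τ hτ
  rw [heq]; exact hτ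

end Cfsg.Agent.Lib.Helper86.Rank2
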