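import Cfsg.Agent.Lib.Helper86.KLFun
import Cfsg.Agent.Lib.Helper15.FusWC

set_option autoImplicit false

/-! Control of weak closure of elements by a functor satisfying the local centre condition. -/

namespace Cfsg.Agent.Lib.Helper86.KL

open Cfsg Cfsg.FusionSystem Cfsg.Agent.Lib.Helper87 Cfsg.Agent.Lib.Helper86.Model
  Cfsg.Agent.Lib.Helper86.SecFree

universe u

variable {p : ℕ} {W : ∀ (Q : Type u) [Group Q], Subgroup Q}

theorem center_le_center_normalizerSystem {Ω : Type u} [Group Ω] {S : Subgroup Ω} [Finite S]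
    (F : FusionSystem S) {T : Subgroup Ω} (hNT : normalizerIn S T = S)
    {N : FusionSystem (normalizerIn S T)} (hN : F.IsNormalizerSystem T N) :
    F.center ≤ N.center := by
  apply le_sSup
  show N.IsCentral F.center
  obtain ⟨hZS, hZ⟩ := (Helper87.isCentral_iff F F.center).1 (Helper88.isCentral_center F)
  rw [Helper87.isCentral_iff]
  refine ⟨by rw [hNT]; exact hZS, fun P f hf => ?_⟩
  obtain ⟨hP, -, f', hf', e, hfT⟩ := (mor_normalizerSystem_iff hN P f).1 hf
  obtain ⟨f'', hf'', e', hfix⟩ := hZ _ f' hf'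
  refine ⟨f'', (mor_normalizerSystem_iff hN _ f'').2 ⟨?_, ?_, f'', ?_, fun _ _ => rfl, fun y => ?_⟩,
    fun x hx => ?_, hfix⟩
  · rw [hNT]
    exact (sup_le_sup_right le_sup_left _).trans hf''.le
  · intro x hx
    rw [hNT]
    exact hf''.mem ((sup_le_sup_right le_sup_left _ : P ⊔ F.center ≤ P ⊔ T ⊔ F.center) hx)
  · rw [sup_right_comm]
    exact hf''
  · rw [hfT]
    constructor
    · rintro ⟨x, hx, rfl⟩
      exact ⟨x, hx, e' x (Subgroup.mem_sup_right hx)⟩
    · rintro ⟨x, hx, rfl⟩
      exact ⟨x, hx, (e' x (Subgroup.mem_sup_right hx)).symm⟩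
  · rw [e' x (Subgroup.mem_sup_left hx), e x hx]

theorem center_le_centralizer {Ω : Type u} [Group Ω] {S : Subgroup Ω} [Finite S]
    (F : FusionSystem S) : F.center ≤ S ⊓ Subgroup.centralizer (S : Set Ω) := by
  obtain ⟨hZS, hZ⟩ := (Helper87.isCentral_iff F F.center).1 (Helper88.isCentral_center F)
  intro x hx
  refine ⟨hZS hx, ?_⟩
  show x ∈ Subgroup.centralizer (S : Set Ω)
  rw [Subgroup.mem_centralizer_iff]
  intro s hs
  obtain ⟨f', -, e, hfix⟩ := hZ F.center _ (mor_conj F hZS hs)
  have h1 : f' x = s * x * s⁻¹ := e x hx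
  rw [hfix x hx] at h1
  calc s * x = (s * x * s⁻¹) * s := by group
    _ = x * s := by rw [← h1]

/-- The local centre condition. -/
def CenterHyp (p : ℕ) (W : ∀ (Q : Type u) [Group Q], Subgroup Q) : Prop :=
  ∀ (G : Type u) [Group G] [Finite G] (P : Sylow p G),
    Cfsg.pCore p G ⊓ Subgroup.center G = Cfsg.pCore p G ⊓
      (Subgroup.center ↥(Subgroup.normalizer ((WS W (P : Subgroup G) : Subgroup G) : Set G))).map
        (Subgroup.normalizer ((WS W (P : Subgroup G) : Subgroup G) : Set G)).subtype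

theorem center_eq [Fact p.Prime] (hW : PFun p W)
    (hWZ : ∀ (Q : Type u) [Group Q] [Finite Q], IsPGroup p Q → Subgroup.center Q ≤ W Q)
    (hC : CenterHyp p W) {Ω : Type u} [Group Ω] {S : Subgroup Ω} [Finite S] (hS : IsPGroup p S)
    (F : FusionSystem S) (hF : F.IsSaturated p) (N : FusionSystem (normalizerIn S (WS W S)))
    (hN : F.IsNormalizerSystem (WS W S) N) : N.center = F.center := by
  have hNSS : normalizerIn S S = S := le_antisymm (normalizerIn_le S S) (le_normalizerIn le_rfl)
  have hNT : normalizerIn S (WS W S) = S := by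
    apply le_antisymm (normalizerIn_le S _)
    have := hW.normalizerIn_le hS (le_refl S)
    rwa [hNSS] at this
  have hZW : ∀ P : Subgroup Ω, P ≤ S → P ⊓ Subgroup.centralizer (P : Set Ω) ≤ WS W P := by
    intro P hP x hx
    have : Finite P := finite_of_le hP
    refine ⟨⟨x, hx.1⟩, hWZ P (hS.to_le hP) ?_, rfl⟩
    rw [Subgroup.mem_center_iff]
    intro g
    exact Subtype.ext ((Subgroup.mem_centralizer_iff.1 hx.2) g g.2)
  have : Finite (normalizerIn S (WS W S)) := finite_of_le (normalizerIn_le S _)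
  have hNZ : N.center ≤ S ⊓ Subgroup.centralizer (S : Set Ω) := by
    have h0 := center_le_centralizer N
    have h1 : normalizerIn S (WS W S) ⊓ Subgroup.centralizer (normalizerIn S (WS W S) : Set Ω) =
        S ⊓ Subgroup.centralizer (S : Set Ω) :=
      congrArg (fun X : Subgroup Ω => X ⊓ Subgroup.centralizer (X : Set Ω)) hNT
    exact h0.trans h1.le
  apply le_antisymm _ (center_le_center_normalizerSystem F hNT hN)
  refine Helper15.FusWC.le_center hS F hF (fun X => WS W X) (fun P _ => WS_le P) hZW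
    (fun P hP => hW.normalizerIn_le hS hP) N.center hNZ ?_ ?_
  · intro x hx
    exact Helper15.FusWC.aut_fix_of_mem_center (WS_le S) hN hx (hZW S le_rfl (hNZ hx))
  · intro x hx R hRn hRc NR hNR G _ ι hM hnorm g
    have hRN := isNormal_normalizerSystem hRn.1 hNR
    have hmapn := IsModel.map_normal hM hRN
    obtain ⟨hfin, hreal, ⟨T, hT⟩, hcen⟩ := hM
    have hιinj : Function.Injective ι := hreal.1
    have hNS := normalizerIn_le S R
    have : Finite (normalizerIn S R) := finite_of_le hNS
    have hxR : x ∈ R := by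
      apply centric_self hRc
      exact ⟨(hNZ hx).1, Subgroup.centralizer_le hRn.1 (hNZ hx).2⟩
    have hxN : x ∈ normalizerIn S R := le_normalizerIn hRn.1 hxR
    have key := hW.WS_fun (X := normalizerIn S R) (Y := (T : Subgroup G)) (hS.to_le hNS) (tf ι)
      (fun x hx y hy => tf_mul ι hx hy) (fun x hx y hy e => tf_inj hιinj hx hy e)
      (fun y => by
        rw [hT]
        constructor
        · rintro ⟨s, rfl⟩
          exact ⟨s, s.2, tf_coe ι s⟩
        · rintro ⟨x, hx, rfl⟩
          exact tf_mem_range ι hx)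
    have hWT : WS W (T : Subgroup G) =
        ((WS W (normalizerIn S R)).subgroupOf (normalizerIn S R)).map ι := by
      ext y
      rw [key, mem_map_subgroupOf_iff]
      constructor
      · rintro ⟨x, hx, rfl⟩
        exact ⟨x, hx, WS_le _ hx, rfl⟩
      · rintro ⟨x, hx, -, rfl⟩
        exact ⟨x, hx, rfl⟩
    have hxp : tf ι x ∈ pCore p G := by
      refine le_pCore' hmapn ?_ ((mem_map_subgroupOf_iff ι R _).2 ⟨x, hxR, hxN, rfl⟩)
      exact IsPGroup.map ((hS.to_le hNS).to_subgroup _) ι
    have hxT : tf ι x ∈ (T : Subgroup G) := by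
      rw [hT]
      exact tf_mem_range ι hxN
    have hTp : IsPGroup p (T : Subgroup G) := T.isPGroup'
    have hxn : tf ι x ∈ Subgroup.normalizer ((WS W (T : Subgroup G) : Subgroup G) : Set G) :=
      hW.normalizer_le hTp (Subgroup.le_normalizer hxT)
    have h1 : tf ι x ∈ pCore p G ⊓ Subgroup.center G := by
      rw [hC G T]
      refine ⟨hxp, ⟨tf ι x, hxn⟩, ?_, rfl⟩
      show _ ∈ Subgroup.center _
      rw [Subgroup.mem_center_iff]
      intro k
      apply Subtype.ext
      refine hnorm k ?_
      rw [← hWT]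
      exact k.2
    exact (Subgroup.mem_center_iff.1 h1.2) g

end Cfsg.Agent.Lib.Helper86.KL
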