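import Cfsg.Agent.Lib.Helper86.KLMain
import Cfsg.Agent.Lib.Helper89.NilZJ
import Cfsg.Agent.S0664

set_option autoImplicit false

/-! The ZJ-theorem for `Qd(p)`-free saturated fusion systems, `p` odd. -/

namespace Cfsg.Agent.Lib.Helper86.KL

open Cfsg Cfsg.FusionSystem Cfsg.Agent.Lib.Helper87 Cfsg.Agent.Lib.Helper86.Model
  Cfsg.Agent.Lib.Helper86.SecFree

universe u

variable {p : ℕ} {W' : ∀ (Ω : Type u) [Group Ω], Subgroup Ω → Subgroup Ω}

theorem PFun.of_isPFunctor (h : Helper89.IsPFunctor p W') : PFun p (fun Q _ => W' Q ⊤) where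
  ne_bot := by
    intro Q _ _ hQ hnt
    refine h.ne_bot Q ⊤ (hQ.to_subgroup ⊤) (fun hb => ?_)
    obtain ⟨x, hx⟩ := exists_ne (1 : Q)
    have : x ∈ (⊤ : Subgroup Q) := trivial
    rw [hb] at this
    exact hx this
  map_eq := by
    intro Q R _ _ _ hQ φ
    have : Finite R := Finite.of_equiv _ φ.toEquiv
    let e : (⊤ : Subgroup Q) ≃* (⊤ : Subgroup R) :=
      Subgroup.topEquiv.trans (φ.trans Subgroup.topEquiv.symm)
    ext y
    constructor
    · rintro ⟨x, hx, rfl⟩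
      exact h.equiv Q R ⊤ ⊤ e ⟨x, trivial⟩ hx
    · intro hy
      refine ⟨φ.symm y, h.equiv R Q ⊤ ⊤ e.symm ⟨y, trivial⟩ hy, ?_⟩
      exact φ.apply_symm_apply y

theorem WS_of_isPFunctor (h : Helper89.IsPFunctor p W') {Ω : Type u} [Group Ω] (X : Subgroup Ω)
    [Finite X] : WS (fun Q _ => W' Q ⊤) X = W' Ω X := by
  ext y
  constructor
  · rintro ⟨x, hx, rfl⟩
    exact h.equiv X Ω ⊤ X Subgroup.topEquiv ⟨x, trivial⟩ hx
  · intro hy
    exact ⟨⟨y, h.le Ω X hy⟩, h.equiv Ω X X ⊤ Subgroup.topEquiv.symm ⟨y, h.le Ω X hy⟩ hy, rfl⟩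

/-- The ZJ-theorem for fusion systems. -/
theorem isNormal_centerThompsonA [Fact p.Prime] (hp : p ≠ 2) {Ω : Type u} [Group Ω]
    {S : Subgroup Ω} [Finite S] (hS : IsPGroup p S) {F : FusionSystem S} (hF : F.IsSaturated p)
    (hfree : F.IsSectionFree p ↥(Cfsg.qd p)) : F.IsNormal (centerThompsonAOf S) := by
  have hW := Helper89.isPFunctor_centerThompsonA.{u} p
  rw [← WS_of_isPFunctor hW S]
  refine isNormal_WS (PFun.of_isPFunctor hW) ?_ hS hF hfree
  intro L _ _ P hc hinv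
  rw [WS_of_isPFunctor hW]
  exact Cfsg.Agent.S0664.result hp hinv hc P

theorem centerThompsonA_ne_bot [Fact p.Prime] {Ω : Type u} [Group Ω]
    {S : Subgroup Ω} [Finite S] (hS : IsPGroup p S) (h : S ≠ ⊥) : centerThompsonAOf S ≠ ⊥ :=
  (Helper89.isPFunctor_centerThompsonA.{u} p).ne_bot Ω S hS h

/-- `Qd(p)`-free saturated systems are solvable, `p` odd. -/
theorem solvable_of_free [Fact p.Prime] (hp : p ≠ 2) {Ω : Type u} [Group Ω]
    {S : Subgroup Ω} [Finite S] (hS : IsPGroup p S) {F : FusionSystem S} (hF : F.IsSaturated p)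
    (hfree : F.IsSectionFree p ↥(Cfsg.qd p)) : F.IsSolvableSystem := by
  intro R hR hRS _ E hE
  have h := surjMor_of_factor hS hF hR hE
  have hfin := h.finite_target
  have hn := isNormal_centerThompsonA hp (h.isPGroup_target hS) (h.saturated_target hS hF)
    (sectionFree_factor hS hF hR hE hfree)
  have hne : centerThompsonAOf (⊤ : Subgroup (↥S ⧸ R.subgroupOf S)) ≠ ⊥ := by
    refine centerThompsonA_ne_bot (h.isPGroup_target hS) (fun hbot => hRS ?_)
    apply le_antisymm hE.1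
    intro x hx
    have h1 : QuotientGroup.mk' (R.subgroupOf S) ⟨x, hx⟩ ∈ (⊤ : Subgroup (↥S ⧸ R.subgroupOf S)) :=
      trivial
    rw [hbot, Subgroup.mem_bot] at h1
    exact (hE.2.1 ⟨x, hx⟩).1 h1
  intro hcore
  apply hne
  rw [eq_bot_iff, ← hcore]
  exact le_sSup hn

end Cfsg.Agent.Lib.Helper86.KL
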