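import Cfsg.Agent.Lib.Helper87.Saturated
import Cfsg.Agent.Lib.Helper87.FusionMk

/-!
`K`-normalizers in fusion systems (Aschbacher-Kessar-Oliver I.5.2), in the function-form API.
-/

set_option autoImplicit false

namespace Cfsg.Agent.Lib.Helper86.KNorm

open Cfsg Cfsg.FusionSystem Cfsg.Agent.Lib.Helper87

variable {Ω : Type*} [Group Ω] {S : Subgroup Ω}

/-- The automorphisms of `U` induced, through `φ`, by conjugation with elements of `N`. -/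
def indAut (N U : Subgroup Ω) (φ : Ω → Ω) : Subgroup (MulAut U) where
  carrier := {κ | ∃ g ∈ N, ∀ x : U, g * φ x * g⁻¹ = φ (κ x : U)}
  one_mem' := ⟨1, N.one_mem, fun x => by simp⟩
  mul_mem' := by
    rintro a b ⟨g, hg, e⟩ ⟨k, hk, e'⟩
    refine ⟨g * k, N.mul_mem hg hk, fun x => ?_⟩
    have : g * k * φ x * (g * k)⁻¹ = g * (k * φ x * k⁻¹) * g⁻¹ := by group
    rw [this, e', e]
    rfl
  inv_mem' := by
    rintro a ⟨g, hg, e⟩
    refine ⟨g⁻¹, N.inv_mem hg, fun x => ?_⟩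
    have h1 := e (a⁻¹ x)
    rw [MulAut.apply_inv_self] at h1
    rw [← h1]
    group

theorem mem_indAut {N U : Subgroup Ω} {φ : Ω → Ω} {κ : MulAut U} :
    κ ∈ indAut N U φ ↔ ∃ g ∈ N, ∀ x : U, g * φ x * g⁻¹ = φ (κ x : U) := Iff.rfl

/-- The elements of `S` inducing, through `φ`, an element of `L` on `U`. -/
def NL (S U : Subgroup Ω) (L : Subgroup (MulAut U)) (φ : Ω → Ω) : Subgroup Ω where
  carrier := {g | g ∈ S ∧ ∃ ℓ ∈ L, ∀ x : U, g * φ x * g⁻¹ = φ (ℓ x : U)}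
  one_mem' := ⟨S.one_mem, 1, L.one_mem, fun x => by simp⟩
  mul_mem' := by
    rintro g k ⟨hg, a, ha, e⟩ ⟨hk, b, hb, e'⟩
    refine ⟨S.mul_mem hg hk, a * b, L.mul_mem ha hb, fun x => ?_⟩
    have : g * k * φ x * (g * k)⁻¹ = g * (k * φ x * k⁻¹) * g⁻¹ := by group
    rw [this, e', e]
    rfl
  inv_mem' := by
    rintro g ⟨hg, a, ha, e⟩
    refine ⟨S.inv_mem hg, a⁻¹, L.inv_mem ha, fun x => ?_⟩
    have h1 := e (a⁻¹ x)
    rw [MulAut.apply_inv_self] at h1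
    rw [← h1]
    group

theorem mem_NL {U : Subgroup Ω} {L : Subgroup (MulAut U)} {φ : Ω → Ω} {g : Ω} :
    g ∈ NL S U L φ ↔ g ∈ S ∧ ∃ ℓ ∈ L, ∀ x : U, g * φ x * g⁻¹ = φ (ℓ x : U) := Iff.rfl

theorem NL_le (S U : Subgroup Ω) (L : Subgroup (MulAut U)) (φ : Ω → Ω) : NL S U L φ ≤ S :=
  fun _ h => h.1

theorem NL_id_le_normalizer (S U : Subgroup Ω) (L : Subgroup (MulAut U)) :
    NL S U L id ≤ Subgroup.normalizer (U : Set Ω) := by
  rintro g ⟨_, ℓ, _, e⟩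
  exact mem_normalizer_of_induces (α := ℓ) (fun x => (e x).symm)

theorem indAut_le_autGroup {F : FusionSystem S} {N U : Subgroup Ω} {φ : Ω → Ω} (hφ : Mor F U φ)
    (hN : N ≤ S) : indAut N U φ ≤ F.autGroup U := by
  rintro κ ⟨g, hg, e⟩
  rw [mem_autGroup_iff F hφ.le]
  obtain ⟨ω, hω, h1, _⟩ := hφ.iso_img.symm
  have hc : Mor F (img U φ) (fun y => g * y * g⁻¹) := mor_conj F hφ.img_le (hN hg)
  have h2 : Mor F U ((fun y => g * y * g⁻¹) ∘ φ) := hφ.comp hc (fun x hx => hφ.iso_img.map_mem hx)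
  have h3 : Mor F U (ω ∘ ((fun y => g * y * g⁻¹) ∘ φ)) := h2.comp hω.1 (fun x hx => by
    show g * φ x * g⁻¹ ∈ _
    rw [e ⟨x, hx⟩]
    exact hφ.iso_img.map_mem (Subtype.prop _))
  refine h3.congr (fun x hx => ?_)
  show ω (g * φ x * g⁻¹) = _
  rw [e ⟨x, hx⟩, h1 _ (Subtype.prop _), autFun_apply _ hx]

theorem isPGroup_indAut {F : FusionSystem S} {p : ℕ} {N U : Subgroup Ω} {φ : Ω → Ω} (hφ : Mor F U φ)
    (hN : IsPGroup p N) : IsPGroup p (indAut N U φ) := by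
  rintro ⟨κ, g, hg, e⟩
  have hpow : ∀ n : ℕ, ∀ x : U, g ^ n * φ x * (g ^ n)⁻¹ = φ ((κ ^ n) x : U) := by
    intro n
    induction n with
    | zero => intro x; simp
    | succ n ih =>
      intro x
      have : g ^ (n + 1) * φ x * (g ^ (n + 1))⁻¹ = g ^ n * (g * φ x * g⁻¹) * (g ^ n)⁻¹ := by
        rw [pow_succ]
        group
      rw [this, e, ih, pow_succ]
      rfl
  obtain ⟨k, hk⟩ := hN ⟨g, hg⟩
  have hk' : g ^ p ^ k = 1 := congrArg Subtype.val hk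
  refine ⟨k, Subtype.ext ?_⟩
  show κ ^ p ^ k = 1
  ext x
  have h1 := hpow (p ^ k) x
  rw [hk'] at h1
  simp only [one_mul, inv_one, mul_one] at h1
  exact (hφ.inj x.2 (Subtype.prop _) h1).symm

/-- AKO I.5.2 (b) ⇒ (a). -/
theorem full_receptive_sylow [Finite S] {p : ℕ} [Fact p.Prime] (hS : IsPGroup p S)
    {F : FusionSystem S} (hF : F.IsSaturated p) {U : Subgroup Ω} {L : Subgroup (MulAut U)} (hU : U ≤ S)
    (hfull : ∀ φ, Mor F U φ → Nat.card (NL S U L φ) ≤ Nat.card (NL S U L id)) :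
    F.IsReceptive U ∧ IsSylIn p (autInducedBy S U ⊓ L) (F.autGroup U ⊓ L) := by
  obtain ⟨R, hUR, hRn⟩ := exists_fullyNormalized_conj F hU
  have hRa := fullyNormalized_fullyAutomized hS hF hRn
  have hRr := fullyNormalized_receptive hS hF hRn
  obtain ⟨f₀, hf₀⟩ := (isConj_iff F U R).1 hUR
  have hD : autInducedBy S U ⊓ L ≤ F.autGroup U ⊓ L :=
    inf_le_inf_right _ (autInducedBy_le_autGroup F hU)
  have hDp : IsPGroup p ↥(autInducedBy S U ⊓ L) := (isPGroup_autInducedBy hS U).to_le inf_le_left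
  obtain ⟨T, hT, hDT⟩ := exists_isSylIn_ge hD hDp
  obtain ⟨ψ, hψ, hψT⟩ := exists_iso_conj_into hRa hf₀ T (hT.1.trans inf_le_left) hT.2.1
  obtain ⟨ψ', hψ', hψ'U⟩ := receptive_extend hRr hψ (NL S U L id) (NL_le _ _ _ _)
    (NL_id_le_normalizer S U L) (fun g hg => by
      obtain ⟨hgS, ℓ, hℓ, e⟩ := hg
      have hℓD : ℓ ∈ autInducedBy S U ⊓ L :=
        ⟨(mem_autInducedBy_iff S U ℓ).2 ⟨g, hgS, fun x => (e x).symm⟩, hℓ⟩
      obtain ⟨k, hk, hk'⟩ := hψT ℓ (hDT hℓD)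
      refine ⟨k, hk, fun x hx => ?_⟩
      rw [← hk' ⟨x, hx⟩]
      congr 1
      exact e ⟨x, hx⟩)
  have hUle : U ≤ U ⊔ NL S U L id := le_sup_left
  have hNle : NL S U L id ≤ U ⊔ NL S U L id := le_sup_right
  have hmap : ∀ g ∈ NL S U L id, ψ' g ∈ NL S U L ψ := by
    rintro g hg
    obtain ⟨hgS, ℓ, hℓ, e⟩ := hg
    refine ⟨hψ'.mem (hNle ⟨hgS, ℓ, hℓ, e⟩), ℓ, hℓ, fun x => ?_⟩
    rw [← hψ'U x x.2, ← hψ'U _ (Subtype.prop _), ← hψ'.map_conj (hNle ⟨hgS, ℓ, hℓ, e⟩) (hUle x.2)]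
    congr 1
    exact e x
  have hsurj := hψ'.surj_of_card_le hNle (NL_le S U L ψ) hmap (hfull ψ hψ.1)
  constructor
  · -- `U` is fully centralized
    apply fullyCentralized_receptive hS hF
    refine ⟨hU, fun U' hU' => ?_⟩
    have h1 : Nat.card (centralizerIn S U') ≤ Nat.card (centralizerIn S R) :=
      (receptive_fullyCentralized hRr).2 U' (isConj_trans (isConj_symm hUR) hU')
    refine h1.trans ?_
    obtain ⟨ω, hω, hω1, hω2⟩ := hψ'.iso_img.symm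
    -- map C_S(R) into C_S(U) by the inverse of ψ'
    have hcR : ∀ c ∈ centralizerIn S R, ∃ g ∈ centralizerIn S U, ψ' g = c := by
      intro c hc
      rw [mem_centralizerIn_iff] at hc
      have hcN : c ∈ NL S U L ψ := by
        refine ⟨hc.1, 1, L.one_mem, fun x => ?_⟩
        rw [← hc.2 _ (hψ.map_mem x.2)]
        simp
      obtain ⟨g, hg, e⟩ := hsurj c hcN
      refine ⟨g, ?_, e⟩
      rw [mem_centralizerIn_iff]
      refine ⟨hg.1, fun x hx => ?_⟩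
      apply hψ'.inj (Subgroup.mul_mem _ (hUle hx) (hNle hg)) (Subgroup.mul_mem _ (hNle hg) (hUle hx))
      rw [hψ'.map_mul (hUle hx) (hNle hg), hψ'.map_mul (hNle hg) (hUle hx), e, hψ'U x hx]
      exact hc.2 _ (hψ.map_mem hx)
    choose! gg hgg1 hgg2 using hcR
    have := finite_of_le (centralizerIn_le S U)
    refine Nat.card_le_card_of_injective
      (fun c : centralizerIn S R => (⟨gg c, hgg1 c c.2⟩ : centralizerIn S U)) ?_
    intro c c' hcc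
    have h2 : gg c = gg c' := congrArg Subtype.val hcc
    apply Subtype.ext
    rw [← hgg2 c c.2, ← hgg2 c' c'.2, h2]
  · -- `T` equals `Aut_S(U) ⊓ L`
    have hTD : T ≤ autInducedBy S U ⊓ L := by
      intro t ht
      obtain ⟨k, hk, hk'⟩ := hψT t ht
      have htL : t ∈ L := (hT.1 ht).2
      have hkN : k ∈ NL S U L ψ := ⟨hk, t, htL, fun x => (hk' x).symm⟩
      obtain ⟨g, hg, e⟩ := hsurj k hkN
      refine ⟨(mem_autInducedBy_iff S U t).2 ⟨g, hg.1, fun x => ?_⟩, htL⟩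
      have hgx : g * (x : Ω) * g⁻¹ ∈ U :=
        (Subgroup.mem_normalizer_iff.1 (NL_id_le_normalizer S U L hg) x).1 x.2
      apply hψ'.inj (hUle (Subtype.prop _)) (hUle hgx)
      rw [hψ'.map_conj (hNle hg) (hUle x.2), e, hψ'U _ (Subtype.prop _), hψ'U x x.2, hk']
    have : T = autInducedBy S U ⊓ L := le_antisymm hTD hDT
    rw [← this]
    exact hT

/-- AKO I.5.2 (a) ⇒ (c). -/
theorem exists_extension [Finite S] {p : ℕ} [Fact p.Prime] (hS : IsPGroup p S)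
    {F : FusionSystem S} {U : Subgroup Ω} {L : Subgroup (MulAut U)}
    (hr : F.IsReceptive U) (hsyl : IsSylIn p (autInducedBy S U ⊓ L) (F.autGroup U ⊓ L))
    {φ : Ω → Ω} (hφ : Mor F U φ) :
    ∃ χ ∈ F.autGroup U ⊓ L, ∃ θ, Mor F (img U φ ⊔ NL S U L φ) θ ∧ ∀ x : U, θ (φ x) = (χ x : U) := by
  have hU := hφ.le
  have : Finite U := finite_of_le hU
  set B := indAut (NL S U L φ) U φ ⊓ L with hB
  have hBle : B ≤ F.autGroup U ⊓ L :=
    inf_le_inf_right _ (indAut_le_autGroup hφ (NL_le _ _ _ _))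
  have hBp : IsPGroup p B := (isPGroup_indAut hφ (hS.to_le (NL_le _ _ _ _))).to_le inf_le_left
  obtain ⟨χ, hχ, hconj⟩ := hsyl.exists_conj hBle hBp
  obtain ⟨ω, hω, hω1, hω2⟩ := hφ.iso_img.symm
  have hχiso : Iso F U U (autFun χ) := iso_autFun ((mem_autGroup_iff F hU χ).1 hχ.1)
  have hθ : Iso F (img U φ) U (autFun χ ∘ ω) := hω.trans hχiso
  have hnorm : NL S U L φ ≤ Subgroup.normalizer ((img U φ : Subgroup Ω) : Set Ω) := by
    intro g hg
    have key : ∀ g ∈ NL S U L φ, ∀ y ∈ img U φ, g * y * g⁻¹ ∈ img U φ := by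
      rintro g ⟨_, ℓ, _, e⟩ y hy
      obtain ⟨x, hx, rfl⟩ := hφ.iso_img.surj hy
      rw [e ⟨x, hx⟩]
      exact hφ.iso_img.map_mem (Subtype.prop _)
    rw [Subgroup.mem_normalizer_iff]
    intro y
    refine ⟨key g hg y, fun hy => ?_⟩
    have := key g⁻¹ (Subgroup.inv_mem _ hg) _ hy
    have e : g⁻¹ * (g * y * g⁻¹) * g⁻¹⁻¹ = y := by group
    rwa [e] at this
  obtain ⟨θ, hθm, hθe⟩ := receptive_extend hr hθ (NL S U L φ) (NL_le _ _ _ _) hnorm (by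
    intro g hg
    obtain ⟨hgS, ℓ, hℓ, e⟩ := id hg
    have hℓB : ℓ ∈ B := ⟨⟨g, hg, e⟩, hℓ⟩
    obtain ⟨k, hk, hk'⟩ := (mem_autInducedBy_iff S U _).1 (hconj ℓ hℓB).1
    refine ⟨k, hk, fun y hy => ?_⟩
    obtain ⟨x, hx, rfl⟩ := hφ.iso_img.surj hy
    show autFun χ (ω (g * φ x * g⁻¹)) = k * autFun χ (ω (φ x)) * k⁻¹
    rw [e ⟨x, hx⟩, hω1 _ (Subtype.prop _), hω1 x hx, autFun_coe, autFun_apply χ hx, ← hk']
    show _ = ((χ (ℓ (χ⁻¹ (χ ⟨x, hx⟩))) : U) : Ω)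
    rw [MulAut.inv_apply_self])
  refine ⟨χ, hχ, θ, hθm, fun x => ?_⟩
  rw [hθe _ (hφ.iso_img.map_mem x.2)]
  show autFun χ (ω (φ x)) = _
  rw [hω1 x x.2, autFun_coe]

end Cfsg.Agent.Lib.Helper86.KNorm
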