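import Cfsg.Agent.Lib.Helper86.KNormSat3

set_option autoImplicit false

namespace Cfsg.Agent.Lib.Helper86.KNorm

open Cfsg Cfsg.FusionSystem Cfsg.Agent.Lib.Helper87

variable {Ω : Type*} [Group Ω] {S : Subgroup Ω}

theorem NL_top_eq {F : FusionSystem S} {Q : Subgroup Ω} {φ : Ω → Ω} (hφ : Mor F Q φ) :
    NL S Q ⊤ φ = normalizerIn S (img Q φ) := by
  have hiso := hφ.iso_img
  ext g
  rw [mem_NL]
  constructor
  · rintro ⟨hg, ℓ, _, e⟩
    refine ⟨hg, ?_⟩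
    have key : ∀ (g : Ω) (ℓ : MulAut Q), (∀ x : Q, g * φ x * g⁻¹ = φ (ℓ x : Q)) →
        ∀ y ∈ img Q φ, g * y * g⁻¹ ∈ img Q φ := by
      intro g ℓ e y hy
      obtain ⟨x, hx, rfl⟩ := hiso.surj hy
      rw [e ⟨x, hx⟩]
      exact hiso.map_mem (Subtype.prop _)
    show g ∈ Subgroup.normalizer _
    rw [Subgroup.mem_normalizer_iff]
    intro y
    refine ⟨key g ℓ e y, fun hy => ?_⟩
    have := key g⁻¹ ℓ⁻¹ (fun x => by
      have h1 := e (ℓ⁻¹ x)
      rw [MulAut.apply_inv_self] at h1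
      rw [← h1]
      group) _ hy
    have e' : g⁻¹ * (g * y * g⁻¹) * g⁻¹⁻¹ = y := by group
    rwa [e'] at this
  · rintro ⟨hg, hgn⟩
    refine ⟨hg, MulAut.congr hiso.toMulEquiv.symm ((img Q φ).normalizerMonoidHom ⟨g, hgn⟩),
      Subgroup.mem_top _, fun x => ?_⟩
    show _ = φ (hiso.toMulEquiv.symm ((img Q φ).normalizerMonoidHom ⟨g, hgn⟩
      (hiso.toMulEquiv.symm.symm x)) : Q)
    rw [hiso.apply_toMulEquiv_symm]
    rfl

theorem img_id (Q : Subgroup Ω) : img Q id = Q := by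
  unfold img
  rw [Set.image_id, Subgroup.closure_eq]

theorem NL_bot_eq {F : FusionSystem S} {Q : Subgroup Ω} {φ : Ω → Ω} (hφ : Mor F Q φ) :
    NL S Q ⊥ φ = centralizerIn S (img Q φ) := by
  have hiso := hφ.iso_img
  ext g
  rw [mem_NL, mem_centralizerIn_iff]
  constructor
  · rintro ⟨hg, ℓ, hℓ, e⟩
    rw [Subgroup.mem_bot] at hℓ
    subst hℓ
    refine ⟨hg, fun y hy => ?_⟩
    obtain ⟨x, hx, rfl⟩ := hiso.surj hy
    have h1 : g * φ x * g⁻¹ = φ x := e ⟨x, hx⟩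
    calc φ x * g = g * φ x * g⁻¹ * g := by rw [h1]
      _ = g * φ x := by group
  · rintro ⟨hg, hc⟩
    refine ⟨hg, 1, Subgroup.one_mem _, fun x => ?_⟩
    rw [← hc _ (hiso.map_mem x.2)]
    simp

theorem extK_top_iff (F : FusionSystem S) (Q P : Subgroup Ω) (f : Ω → Ω) :
    ExtK F Q ⊤ P f ↔ ExtN F Q P f := by
  constructor
  · rintro ⟨f', hf', h1, κ, _, e⟩
    refine ⟨f', hf', h1, fun y => ⟨fun hy => ?_, ?_⟩⟩
    · refine ⟨(κ⁻¹ ⟨y, hy⟩ : Q), Subtype.prop _, ?_⟩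
      rw [e, MulAut.apply_inv_self]
    · rintro ⟨x, hx, rfl⟩
      rw [e ⟨x, hx⟩]
      exact Subtype.prop _
  · rintro ⟨f', hf', h1, h2⟩
    have hiso : Iso F Q Q f' := ⟨hf'.mono le_sup_right, h2⟩
    obtain ⟨κ, _, hκ⟩ := hiso.exists_aut
    exact ⟨f', hf', h1, κ, Subgroup.mem_top _, fun x => (hκ x).symm⟩

theorem extK_bot_iff (F : FusionSystem S) (Q P : Subgroup Ω) (f : Ω → Ω) :
    ExtK F Q ⊥ P f ↔ ExtC F Q P f := by
  constructor
  · rintro ⟨f', hf', h1, κ, hκ, e⟩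
    rw [Subgroup.mem_bot] at hκ
    subst hκ
    exact ⟨f', hf', h1, fun x hx => e ⟨x, hx⟩⟩
  · rintro ⟨f', hf', h1, h2⟩
    exact ⟨f', hf', h1, 1, Subgroup.one_mem _, fun x => h2 x x.2⟩

/-- `N_F(Q)` is saturated for `Q` fully normalized. -/
theorem normalizerSystem_saturated [Finite S] {p : ℕ} [Fact p.Prime] (hS : IsPGroup p S)
    {F : FusionSystem S} (hF : F.IsSaturated p) {Q : Subgroup Ω} (hQ : F.IsFullyNormalized Q)
    {E : FusionSystem (normalizerIn S Q)} (hE : F.IsNormalizerSystem Q E) : E.IsSaturated p := by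
  have hid : NL S Q ⊤ id = normalizerIn S Q := by
    rw [NL_top_eq (mor_id F hQ.1), img_id]
  refine KSys.saturated (K := ⊤) (F := F) (Q := Q) ⟨hS, hF, hQ.1, hid.symm, fun P f => ?_, fun φ hφ => ?_⟩
  · rw [extK_top_iff]
    constructor
    · rintro ⟨φ, hφ, e⟩
      rw [hE P, mem_normalizerHom_iff] at hφ
      obtain ⟨h1, h2, h3⟩ := hφ
      have he : ∀ x ∈ P, ext φ x = f x := fun x hx => by rw [ext_apply φ hx, e]
      exact ⟨h1, fun x hx => by rw [← he x hx]; exact h2 x hx, h3.congr he⟩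
    · rintro ⟨h1, h2, h3⟩
      obtain ⟨φ, hφ, e⟩ := h3.mor
      have he : ∀ x ∈ P, f x = ext φ x := fun x hx => by rw [ext_apply φ hx, e]
      refine ⟨φ, ?_, e⟩
      rw [hE P, mem_normalizerHom_iff]
      exact ⟨h1, fun x hx => by rw [← he x hx]; exact h2 x hx, h3.congr he⟩
  · rw [hid, NL_top_eq hφ]
    exact hQ.2 _ hφ.iso_img.isConj

/-- `C_F(Q)` is saturated for `Q` fully centralized. -/
theorem centralizerSystem_saturated [Finite S] {p : ℕ} [Fact p.Prime] (hS : IsPGroup p S)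
    {F : FusionSystem S} (hF : F.IsSaturated p) {Q : Subgroup Ω} (hQ : F.IsFullyCentralized Q)
    {E : FusionSystem (centralizerIn S Q)} (hE : F.IsCentralizerSystem Q E) : E.IsSaturated p := by
  have hid : NL S Q ⊥ id = centralizerIn S Q := by
    rw [NL_bot_eq (mor_id F hQ.1), img_id]
  refine KSys.saturated (K := ⊥) (F := F) (Q := Q) ⟨hS, hF, hQ.1, hid.symm, fun P f => ?_, fun φ hφ => ?_⟩
  · rw [extK_bot_iff]
    constructor
    · rintro ⟨φ, hφ, e⟩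
      rw [hE P, mem_centralizerHom_iff] at hφ
      obtain ⟨h1, h2, h3⟩ := hφ
      have he : ∀ x ∈ P, ext φ x = f x := fun x hx => by rw [ext_apply φ hx, e]
      exact ⟨h1, fun x hx => by rw [← he x hx]; exact h2 x hx, h3.congr he⟩
    · rintro ⟨h1, h2, h3⟩
      obtain ⟨φ, hφ, e⟩ := h3.mor
      have he : ∀ x ∈ P, f x = ext φ x := fun x hx => by rw [ext_apply φ hx, e]
      refine ⟨φ, ?_, e⟩
      rw [hE P, mem_centralizerHom_iff]
      exact ⟨h1, fun x hx => by rw [← he x hx]; exact h2 x hx, h3.congr he⟩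
  · rw [hid, NL_bot_eq hφ]
    exact hQ.2 _ hφ.iso_img.isConj

end Cfsg.Agent.Lib.Helper86.KNorm
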