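import Cfsg.Agent.Lib.Helper86.KNorm

/-!
Saturation of `K`-normalizer systems (Aschbacher-Kessar-Oliver I.5.5).
-/

set_option autoImplicit false

namespace Cfsg.Agent.Lib.Helper86.KNorm

open Cfsg Cfsg.FusionSystem Cfsg.Agent.Lib.Helper87

variable {Ω : Type*} [Group Ω] {S : Subgroup Ω}

/-- `f` on `P` extends to `P ⊔ Q` inducing an element of `K` on `Q`. -/
def ExtK (F : FusionSystem S) (Q : Subgroup Ω) (K : Subgroup (MulAut Q)) (P : Subgroup Ω)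
    (f : Ω → Ω) : Prop :=
  ∃ f', Mor F (P ⊔ Q) f' ∧ (∀ x ∈ P, f' x = f x) ∧ ∃ κ ∈ K, ∀ x : Q, f' x = (κ x : Q)

/-- inclusion of `Q` in `P ⊔ Q`. -/
def iQ (P : Subgroup Ω) {Q : Subgroup Ω} (x : Q) : ↥(P ⊔ Q) := ⟨x, Subgroup.mem_sup_right x.2⟩

/-- inclusion of `P` in `P ⊔ Q`. -/
def iP {P : Subgroup Ω} (Q : Subgroup Ω) (x : P) : ↥(P ⊔ Q) := ⟨x, Subgroup.mem_sup_left x.2⟩

/-- The automorphisms of `P ⊔ Q` preserving `P` and inducing an element of `K` on `Q`. -/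
def KP (Q : Subgroup Ω) (K : Subgroup (MulAut Q)) (P : Subgroup Ω) : Subgroup (MulAut ↥(P ⊔ Q)) where
  carrier := {α | (∀ x : ↥(P ⊔ Q), (x : Ω) ∈ P ↔ ((α x : ↥(P ⊔ Q)) : Ω) ∈ P) ∧
    ∃ κ ∈ K, ∀ x : Q, α (iQ P x) = iQ P (κ x)}
  one_mem' := ⟨fun _ => Iff.rfl, 1, K.one_mem, fun _ => rfl⟩
  mul_mem' := by
    rintro a b ⟨ha, κ, hκ, e⟩ ⟨hb, κ', hκ', e'⟩
    refine ⟨fun x => (hb x).trans (ha (b x)), κ * κ', K.mul_mem hκ hκ', fun x => ?_⟩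
    show a (b (iQ P x)) = iQ P (κ (κ' x))
    rw [e', e]
  inv_mem' := by
    rintro a ⟨ha, κ, hκ, e⟩
    refine ⟨fun x => ?_, κ⁻¹, K.inv_mem hκ, fun x => ?_⟩
    · have := ha (a⁻¹ x)
      rw [MulAut.apply_inv_self] at this
      exact this.symm
    · have := e (κ⁻¹ x)
      rw [MulAut.apply_inv_self] at this
      rw [← this, MulAut.inv_apply_self]

theorem mem_KP {Q : Subgroup Ω} {K : Subgroup (MulAut Q)} {P : Subgroup Ω} {α : MulAut ↥(P ⊔ Q)} :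
    α ∈ KP Q K P ↔ (∀ x : ↥(P ⊔ Q), (x : Ω) ∈ P ↔ ((α x : ↥(P ⊔ Q)) : Ω) ∈ P) ∧
    ∃ κ ∈ K, ∀ x : Q, α (iQ P x) = iQ P (κ x) := Iff.rfl

/-- Transport of `KP` along an isomorphism. -/
theorem KP_congr {Q : Subgroup Ω} {K : Subgroup (MulAut Q)} {P P₁ : Subgroup Ω}
    (e : ↥(P ⊔ Q) ≃* ↥(P₁ ⊔ Q)) (h1 : ∀ u : ↥(P ⊔ Q), (u : Ω) ∈ P ↔ ((e u : ↥(P₁ ⊔ Q)) : Ω) ∈ P₁)
    {χ : MulAut Q} (hχ : χ ∈ K) (h2 : ∀ x : Q, e (iQ P x) = iQ P₁ (χ x))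
    {ℓ : MulAut ↥(P ⊔ Q)} (hℓ : ℓ ∈ KP Q K P) : MulAut.congr e ℓ ∈ KP Q K P₁ := by
  obtain ⟨ha, κ, hκ, hk⟩ := hℓ
  refine ⟨fun u' => ?_, χ * κ * χ⁻¹, K.mul_mem (K.mul_mem hχ hκ) (K.inv_mem hχ), fun x' => ?_⟩
  · show _ ↔ ((e (ℓ (e.symm u')) : ↥(P₁ ⊔ Q)) : Ω) ∈ P₁
    rw [← h1, ← ha, h1, e.apply_symm_apply]
  · show e (ℓ (e.symm (iQ P₁ x'))) = iQ P₁ (χ (κ (χ⁻¹ x')))
    have h3 : e.symm (iQ P₁ x') = iQ P (χ⁻¹ x') := by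
      rw [MulEquiv.symm_apply_eq, h2, MulAut.apply_inv_self]
    rw [h3, hk, h2]

/-- Transport of `NL` along a bijection. -/
theorem NL_transport {U U' : Subgroup Ω} {L : Subgroup (MulAut U)} {L' : Subgroup (MulAut U')}
    (e : U ≃* U') (h1 : ∀ ℓ ∈ L, MulAut.congr e ℓ ∈ L') (h2 : ∀ ℓ' ∈ L', MulAut.congr e.symm ℓ' ∈ L)
    (f₁ : Ω → Ω) (hf : ∀ u : U, f₁ u = (e u : U')) (φ' : Ω → Ω) :
    NL S U' L' φ' = NL S U L (φ' ∘ f₁) := by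
  ext g
  rw [mem_NL, mem_NL]
  constructor
  · rintro ⟨hg, ℓ', hℓ', h⟩
    refine ⟨hg, _, h2 ℓ' hℓ', fun u => ?_⟩
    show g * φ' (f₁ u) * g⁻¹ = φ' (f₁ (e.symm (ℓ' (e.symm.symm u)) : U))
    rw [hf, hf, h, e.apply_symm_apply]
    rfl
  · rintro ⟨hg, ℓ, hℓ, h⟩
    refine ⟨hg, _, h1 ℓ hℓ, fun u' => ?_⟩
    have h3 : g * φ' (f₁ (e.symm u' : U)) * g⁻¹ = φ' (f₁ (ℓ (e.symm u') : U)) := h (e.symm u')
    show g * φ' u' * g⁻¹ = φ' (e (ℓ (e.symm u')) : U')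
    rw [← hf, ← h3, hf, e.apply_symm_apply]

/-- Restriction to `P` of an automorphism of `P ⊔ Q` preserving `P`. -/
def resAut {P Q : Subgroup Ω} (α : MulAut ↥(P ⊔ Q))
    (h : ∀ x : ↥(P ⊔ Q), (x : Ω) ∈ P ↔ ((α x : ↥(P ⊔ Q)) : Ω) ∈ P) : MulAut P where
  toFun x := ⟨α (iP Q x), (h _).1 x.2⟩
  invFun x := ⟨α.symm (iP Q x), (h _).2 (by rw [MulEquiv.apply_symm_apply]; exact x.2)⟩
  left_inv x := by
    apply Subtype.ext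
    show ((α.symm ⟨(α (iP Q x) : ↥(P ⊔ Q)), _⟩ : ↥(P ⊔ Q)) : Ω) = x
    have : (⟨((α (iP Q x) : ↥(P ⊔ Q)) : Ω), Subgroup.mem_sup_left ((h _).1 x.2)⟩ : ↥(P ⊔ Q)) =
        α (iP Q x) := rfl
    rw [this, MulEquiv.symm_apply_apply]
    rfl
  right_inv x := by
    apply Subtype.ext
    show ((α ⟨(α.symm (iP Q x) : ↥(P ⊔ Q)), _⟩ : ↥(P ⊔ Q)) : Ω) = x
    have : (⟨((α.symm (iP Q x) : ↥(P ⊔ Q)) : Ω), Subgroup.mem_sup_left
        ((h _).2 (by rw [MulEquiv.apply_symm_apply]; exact x.2))⟩ : ↥(P ⊔ Q)) =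
        α.symm (iP Q x) := rfl
    rw [this, MulEquiv.apply_symm_apply]
    rfl
  map_mul' x y := by
    apply Subtype.ext
    show ((α (iP Q (x * y)) : ↥(P ⊔ Q)) : Ω) = (α (iP Q x) : ↥(P ⊔ Q)) * (α (iP Q y) : ↥(P ⊔ Q))
    have : iP Q (x * y) = iP Q x * iP Q y := rfl
    rw [this, map_mul]
    rfl

theorem resAut_apply {P Q : Subgroup Ω} (α : MulAut ↥(P ⊔ Q))
    (h : ∀ x : ↥(P ⊔ Q), (x : Ω) ∈ P ↔ ((α x : ↥(P ⊔ Q)) : Ω) ∈ P) (x : P) :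
    ((resAut α h x : P) : Ω) = (α (iP Q x) : ↥(P ⊔ Q)) := rfl

/-- Restriction as a homomorphism. -/
def resHom (Q : Subgroup Ω) (K : Subgroup (MulAut Q)) (P : Subgroup Ω) : ↥(KP Q K P) →* MulAut P :=
  MonoidHom.mk' (fun α => resAut α.1 α.2.1) (by
    intro a b
    ext x
    rfl)

theorem resHom_apply (Q : Subgroup Ω) (K : Subgroup (MulAut Q)) (P : Subgroup Ω) (α : ↥(KP Q K P))
    (x : P) : ((resHom Q K P α x : P) : Ω) = ((α : MulAut ↥(P ⊔ Q)) (iP Q x) : ↥(P ⊔ Q)) := rfl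

/-- A group-theoretic lemma: conjugating into a Sylow subgroup by an element of a normal subgroup. -/
theorem exists_conj_normal {G : Type*} [Group G] [Finite G] {p : ℕ} [Fact p.Prime]
    {D A A₀ B : Subgroup G} (hD : IsSylIn p D A) (hA₀ : A₀ ≤ A)
    (hn : ∀ g ∈ A, ∀ x ∈ A₀, g * x * g⁻¹ ∈ A₀) (hBp : IsPGroup p B)
    (hB : ∀ b ∈ B, ∃ d ∈ D, d⁻¹ * b ∈ A₀) : ∃ a ∈ A₀, ∀ b ∈ B, a * b * a⁻¹ ∈ D := by
  have hle : D ⊔ A₀ ≤ A := sup_le hD.1 hA₀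
  have hD' : IsSylIn p D (D ⊔ A₀) := hD.mono le_sup_left hle
  have hBle : B ≤ D ⊔ A₀ := by
    intro b hb
    obtain ⟨d, hd, h⟩ := hB b hb
    have : b = d * (d⁻¹ * b) := by group
    rw [this]
    exact Subgroup.mul_mem _ (Subgroup.mem_sup_left hd) (Subgroup.mem_sup_right h)
  obtain ⟨γ, hγ, hconj⟩ := hD'.exists_conj hBle hBp
  obtain ⟨d, hd, a, ha, rfl⟩ := mem_sup_of_normalizes (fun d hd a ha => hn d (hD.1 hd) a ha) hγ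
  refine ⟨a, ha, fun b hb => ?_⟩
  have h1 := hconj b hb
  have h2 : a * b * a⁻¹ = d⁻¹ * (d * a * b * (d * a)⁻¹) * d := by group
  rw [h2]
  exact D.mul_mem (D.mul_mem (D.inv_mem hd) h1) hd

/-- Hypotheses: `E` is the `K`-normalizer system of the fully `K`-normalized subgroup `Q`. -/
structure KSys (p : ℕ) (F : FusionSystem S) (Q : Subgroup Ω) (K : Subgroup (MulAut Q))
    (Sp : Subgroup Ω) (E : FusionSystem Sp) : Prop where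
  hS : IsPGroup p S
  sat : F.IsSaturated p
  hQ : Q ≤ S
  hSp : Sp = NL S Q K id
  hE : ∀ (P : Subgroup Ω) (f : Ω → Ω), Mor E P f ↔ P ≤ Sp ∧ (∀ x ∈ P, f x ∈ Sp) ∧ ExtK F Q K P f
  full : ∀ φ, Mor F Q φ → Nat.card (NL S Q K φ) ≤ Nat.card (NL S Q K id)

namespace KSys

variable {p : ℕ} {F : FusionSystem S} {Q : Subgroup Ω} {K : Subgroup (MulAut Q)}
  {Sp : Subgroup Ω} {E : FusionSystem Sp}

theorem Sp_le (h : KSys p F Q K Sp E) : Sp ≤ S := by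
  rw [h.hSp]
  exact NL_le _ _ _ _

theorem mem_Sp (h : KSys p F Q K Sp E) {g : Ω} :
    g ∈ Sp ↔ g ∈ S ∧ ∃ ℓ ∈ K, ∀ x : Q, g * x * g⁻¹ = (ℓ x : Q) := by
  rw [h.hSp]
  rfl

theorem Sp_le_normalizer (h : KSys p F Q K Sp E) : Sp ≤ Subgroup.normalizer (Q : Set Ω) := by
  rw [h.hSp]
  exact NL_id_le_normalizer _ _ _

theorem sup_le_S (h : KSys p F Q K Sp E) {P : Subgroup Ω} (hP : P ≤ Sp) : P ⊔ Q ≤ S :=
  sup_le (hP.trans h.Sp_le) h.hQ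

theorem map_mem_Sp (h : KSys p F Q K Sp E) {P : Subgroup Ω} (hP : P ≤ Sp) {f' : Ω → Ω}
    (hf : Mor F (P ⊔ Q) f') {κ : MulAut Q} (hκ : κ ∈ K) (e : ∀ x : Q, f' x = (κ x : Q)) :
    ∀ g ∈ P, f' g ∈ Sp := by
  intro g hg
  obtain ⟨_, ℓ, hℓ, hl⟩ := h.mem_Sp.1 (hP hg)
  rw [h.mem_Sp]
  refine ⟨hf.mem (Subgroup.mem_sup_left hg), κ * ℓ * κ⁻¹,
    K.mul_mem (K.mul_mem hκ hℓ) (K.inv_mem hκ), fun x' => ?_⟩
  show _ = ((κ (ℓ (κ⁻¹ x')) : Q) : Ω)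
  have h1 : f' ((κ⁻¹ x' : Q) : Ω) = x' := by rw [e, MulAut.apply_inv_self]
  rw [← e, ← hl, hf.map_conj (Subgroup.mem_sup_left hg) (Subgroup.mem_sup_right (Subtype.prop _)), h1]

theorem mor_E (h : KSys p F Q K Sp E) {P : Subgroup Ω} (hP : P ≤ Sp) {f : Ω → Ω}
    (hf : ExtK F Q K P f) : Mor E P f := by
  rw [h.hE]
  refine ⟨hP, fun x hx => ?_, hf⟩
  obtain ⟨f', hf', h1, κ, hκ, e⟩ := hf
  rw [← h1 x hx]
  exact h.map_mem_Sp hP hf' hκ e x hx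

theorem NL_KP_id (h : KSys p F Q K Sp E) (P : Subgroup Ω) :
    NL S (P ⊔ Q) (KP Q K P) id = normalizerIn Sp P := by
  ext g
  rw [mem_NL, mem_normalizerIn_iff]
  constructor
  · rintro ⟨hg, ℓ, ⟨hℓ1, κ, hκ, hℓ2⟩, e⟩
    have hgn : g ∈ Subgroup.normalizer ((P ⊔ Q : Subgroup Ω) : Set Ω) :=
      mem_normalizer_of_induces (α := ℓ) (fun x => (e x).symm)
    refine ⟨h.mem_Sp.2 ⟨hg, κ, hκ, fun x => ?_⟩, fun x => ⟨fun hx => ?_, fun hx => ?_⟩⟩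
    · have := e (iQ P x)
      rw [hℓ2] at this
      exact this
    · have := e ⟨x, Subgroup.mem_sup_left hx⟩
      have h2 : g * x * g⁻¹ = ((ℓ ⟨x, Subgroup.mem_sup_left hx⟩ : ↥(P ⊔ Q)) : Ω) := this
      rw [h2]
      exact (hℓ1 _).1 hx
    · have hx' : x ∈ P ⊔ Q :=
        (Subgroup.mem_normalizer_iff.1 hgn x).2 (Subgroup.mem_sup_left hx)
      have h2 : g * x * g⁻¹ = ((ℓ ⟨x, hx'⟩ : ↥(P ⊔ Q)) : Ω) := e ⟨x, hx'⟩
      rw [h2] at hx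
      exact (hℓ1 ⟨x, hx'⟩).2 hx
  · rintro ⟨hg, hgP⟩
    obtain ⟨hgS, κ, hκ, hk⟩ := h.mem_Sp.1 hg
    have hgQ := h.Sp_le_normalizer hg
    have hgn : g ∈ Subgroup.normalizer ((P ⊔ Q : Subgroup Ω) : Set Ω) := by
      have key : ∀ g, (∀ x, x ∈ P ↔ g * x * g⁻¹ ∈ P) → g ∈ Subgroup.normalizer (Q : Set Ω) →
          ∀ x ∈ P ⊔ Q, g * x * g⁻¹ ∈ P ⊔ Q := by
        intro g h1 h2 x hx
        have : P ⊔ Q ≤ (P ⊔ Q).comap (MulAut.conj g).toMonoidHom := by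
          refine sup_le (fun y hy => ?_) (fun y hy => ?_)
          · exact Subgroup.mem_sup_left ((h1 y).1 hy)
          · exact Subgroup.mem_sup_right ((Subgroup.mem_normalizer_iff.1 h2 y).1 hy)
        exact this hx
      rw [Subgroup.mem_normalizer_iff]
      intro x
      refine ⟨key g hgP hgQ x, fun hx => ?_⟩
      have := key g⁻¹ (fun y => by
        have := hgP (g⁻¹ * y * g⁻¹⁻¹)
        have e : g * (g⁻¹ * y * g⁻¹⁻¹) * g⁻¹ = y := by group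
        rw [e] at this
        exact this.symm) (Subgroup.inv_mem _ hgQ) _ hx
      have e : g⁻¹ * (g * x * g⁻¹) * g⁻¹⁻¹ = x := by group
      rwa [e] at this
    refine ⟨hgS, (P ⊔ Q).normalizerMonoidHom ⟨g, hgn⟩, ⟨fun x => hgP x, κ, hκ, fun x => ?_⟩,
      fun x => rfl⟩
    apply Subtype.ext
    exact hk x

/-- Elements of `Aut_F(P ⊔ Q) ⊓ K_P` restrict to elements of `Aut_E(P)`. -/
theorem res_mem (h : KSys p F Q K Sp E) {P : Subgroup Ω} (hP : P ≤ Sp) (α : ↥(KP Q K P))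
    (hα : (α : MulAut ↥(P ⊔ Q)) ∈ F.autGroup (P ⊔ Q)) : resHom Q K P α ∈ E.autGroup P := by
  rw [mem_autGroup_iff E hP]
  apply h.mor_E hP
  obtain ⟨κ, hκ, e⟩ := α.2.2
  refine ⟨autFun (α : MulAut ↥(P ⊔ Q)), (mem_autGroup_iff F (h.sup_le_S hP) _).1 hα,
    fun x hx => ?_, κ, hκ, fun x => ?_⟩
  · rw [autFun_apply _ hx, autFun_apply _ (Subgroup.mem_sup_left hx)]
    rfl
  · rw [autFun_apply _ (Subgroup.mem_sup_right x.2)]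
    exact congrArg Subtype.val (e x)

/-- Every element of `Aut_E(P)` is such a restriction. -/
theorem exists_res [Finite S] (h : KSys p F Q K Sp E) {P : Subgroup Ω} (hP : P ≤ Sp) {β : MulAut P}
    (hβ : β ∈ E.autGroup P) : ∃ α : ↥(KP Q K P), (α : MulAut ↥(P ⊔ Q)) ∈ F.autGroup (P ⊔ Q) ∧
      resHom Q K P α = β := by
  have hU := h.sup_le_S hP
  have : Finite ↥(P ⊔ Q) := finite_of_le hU
  obtain ⟨_, _, f', hf', h1, κ, hκ, e⟩ := (h.hE P _).1 ((mem_autGroup_iff E hP β).1 hβ)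
  have hiso : Iso F (P ⊔ Q) (P ⊔ Q) f' := hf'.iso_self (hf'.map_sup_mem
    (fun x hx => by rw [h1 x hx]; exact Subgroup.mem_sup_left (autFun_mem β hx))
    (fun x hx => by rw [e ⟨x, hx⟩]; exact Subgroup.mem_sup_right (Subtype.prop _)))
  obtain ⟨α, hα, hαf⟩ := hiso.exists_aut
  have hαK : α ∈ KP Q K P := by
    refine ⟨fun x => ⟨fun hx => ?_, fun hx => ?_⟩, κ, hκ, fun x => ?_⟩
    · rw [hαf, h1 _ hx]
      exact autFun_mem β hx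
    · -- `α x = β x₀ = α x₀`
      set x₀ : P := β⁻¹ ⟨_, hx⟩ with hx₀
      have h2 : ((α (iP Q x₀) : ↥(P ⊔ Q)) : Ω) = (α x : ↥(P ⊔ Q)) := by
        rw [hαf]
        show f' (x₀ : Ω) = _
        rw [h1 _ x₀.2, autFun_coe, hx₀, MulAut.apply_inv_self]
      have h3 : iP Q x₀ = x := α.injective (Subtype.ext h2)
      rw [← h3]
      exact x₀.2
    · apply Subtype.ext
      rw [hαf]
      exact e x
  refine ⟨⟨α, hαK⟩, hα, ?_⟩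
  ext x
  rw [resHom_apply, hαf]
  show f' (x : Ω) = _
  rw [h1 _ x.2, autFun_coe]

/-- (b1): if `P ⊔ Q` is fully `K_P`-normalized then `P` is fully automized in `E`. -/
theorem fullyAutomized [Finite S] [Fact p.Prime] (h : KSys p F Q K Sp E) {P : Subgroup Ω}
    (hP : P ≤ Sp)
    (hsyl : IsSylIn p (autInducedBy S (P ⊔ Q) ⊓ KP Q K P) (F.autGroup (P ⊔ Q) ⊓ KP Q K P)) :
    E.IsFullyAutomized p P := by
  refine ⟨hP, ?_⟩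
  have : Finite ↥(P ⊔ Q) := finite_of_le (h.sup_le_S hP)
  let r : ↥(F.autGroup (P ⊔ Q) ⊓ KP Q K P) →* ↥(E.autGroup P) :=
    ((resHom Q K P).comp (Subgroup.inclusion inf_le_right)).codRestrict _
      (fun α => h.res_mem hP ⟨α.1, α.2.2⟩ α.2.1)
  have hr : Function.Surjective r := by
    rintro ⟨β, hβ⟩
    obtain ⟨α, hα, e⟩ := h.exists_res hP hβ
    exact ⟨⟨α.1, hα, α.2⟩, Subtype.ext e⟩
  refine ⟨hsyl.toSylow.mapSurjective hr, ?_⟩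
  rw [Sylow.coe_mapSurjective, hsyl.coe_toSylow]
  ext β
  rw [Subgroup.mem_subgroupOf, mem_autInducedBy_iff]
  constructor
  · rintro ⟨α, hα, rfl⟩
    have hα' : (α : MulAut ↥(P ⊔ Q)) ∈ autInducedBy S (P ⊔ Q) ⊓ KP Q K P := hα
    obtain ⟨g, hg, e⟩ := (mem_autInducedBy_iff S _ _).1 hα'.1
    have hgN : g ∈ NL S (P ⊔ Q) (KP Q K P) id := ⟨hg, α, hα'.2, fun x => (e x).symm⟩
    rw [h.NL_KP_id P] at hgN
    exact ⟨g, hgN.1, fun x => e (iP Q x)⟩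
  · rintro ⟨g, hg, e⟩
    have hgN : g ∈ normalizerIn Sp P := ⟨hg, mem_normalizer_of_induces e⟩
    rw [← h.NL_KP_id P] at hgN
    obtain ⟨hgS, ℓ, hℓ, hl⟩ := hgN
    have hℓS : ℓ ∈ autInducedBy S (P ⊔ Q) :=
      (mem_autInducedBy_iff S _ _).2 ⟨g, hgS, fun x => (hl x).symm⟩
    refine ⟨⟨ℓ, autInducedBy_le_autGroup F (h.sup_le_S hP) hℓS, hℓ⟩,
      Subgroup.mem_subgroupOf.2 ⟨hℓS, hℓ⟩, ?_⟩
    apply Subtype.ext
    ext x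
    rw [e]
    exact (hl (iP Q x)).symm

end KSys

end Cfsg.Agent.Lib.Helper86.KNorm
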