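import Cfsg.Agent.Lib.Helper86.KNormSat

set_option autoImplicit false

namespace Cfsg.Agent.Lib.Helper86.KNorm

open Cfsg Cfsg.FusionSystem Cfsg.Agent.Lib.Helper87

variable {Ω : Type*} [Group Ω] {S : Subgroup Ω}

namespace KSys

variable {p : ℕ} {F : FusionSystem S} {Q : Subgroup Ω} {K : Subgroup (MulAut Q)}
  {Sp : Subgroup Ω} {E : FusionSystem Sp}

/-- The elements of `Aut_F(P ⊔ Q) ⊓ K_P` that are the identity on `P`. -/
def A0 (F : FusionSystem S) (Q : Subgroup Ω) (K : Subgroup (MulAut Q)) (P : Subgroup Ω) :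
    Subgroup (MulAut ↥(P ⊔ Q)) where
  carrier := {α | α ∈ F.autGroup (P ⊔ Q) ⊓ KP Q K P ∧ ∀ x : P, α (iP Q x) = iP Q x}
  one_mem' := ⟨Subgroup.one_mem _, fun _ => rfl⟩
  mul_mem' := by
    rintro a b ⟨ha, ea⟩ ⟨hb, eb⟩
    refine ⟨Subgroup.mul_mem _ ha hb, fun x => ?_⟩
    show a (b (iP Q x)) = _
    rw [eb, ea]
  inv_mem' := by
    rintro a ⟨ha, ea⟩
    refine ⟨Subgroup.inv_mem _ ha, fun x => ?_⟩
    conv_lhs => rw [← ea x]
    rw [MulAut.inv_apply_self]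

/-- (b2): if `P ⊔ Q` is fully `K_P`-normalized then `P` is receptive in `E`. -/
theorem receptive [Finite S] [Fact p.Prime] (h : KSys p F Q K Sp E) {P : Subgroup Ω}
    (hP : P ≤ Sp) (hUr : F.IsReceptive (P ⊔ Q))
    (hsyl : IsSylIn p (autInducedBy S (P ⊔ Q) ⊓ KP Q K P) (F.autGroup (P ⊔ Q) ⊓ KP Q K P)) :
    E.IsReceptive P := by
  have hU := h.sup_le_S hP
  have : Finite ↥(P ⊔ Q) := finite_of_le hU
  refine receptive_of hP (fun R₁ f hf N hN => ?_)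
  obtain ⟨hR₁, _, fb, hfb, hfbR, κ₀, hκ₀, hfbQ⟩ := (h.hE R₁ f).1 hf.1
  have hNSp : N ≤ Sp := fun g hg => ((hN g).1 hg).1
  have hNS : N ≤ S := hNSp.trans h.Sp_le
  have hR₁N : R₁ ≤ N := by
    intro g hg
    rw [hN]
    refine ⟨hR₁ hg, Subgroup.le_normalizer hg, f g, hP (hf.map_mem hg), fun x hx => ?_⟩
    exact hf.1.map_conj hg hx
  -- `fb` is an isomorphism onto `P ⊔ Q`
  have hfbiso : Iso F (R₁ ⊔ Q) (P ⊔ Q) fb := hfb.iso_sup
    (fun y => by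
      rw [hf.2 y]
      constructor
      · rintro ⟨x, hx, rfl⟩
        exact ⟨x, hx, hfbR x hx⟩
      · rintro ⟨x, hx, rfl⟩
        exact ⟨x, hx, (hfbR x hx).symm⟩)
    (fun y => by
      constructor
      · intro hy
        refine ⟨(κ₀⁻¹ ⟨y, hy⟩ : Q), Subtype.prop _, ?_⟩
        rw [hfbQ, MulAut.apply_inv_self]
      · rintro ⟨x, hx, rfl⟩
        rw [hfbQ ⟨x, hx⟩]
        exact Subtype.prop _)
  obtain ⟨ω, hω, hω1, hω2⟩ := hfbiso.symm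
  -- membership in `P` through `ω`
  have hωP : ∀ u ∈ P ⊔ Q, (u ∈ P ↔ ω u ∈ R₁) := by
    intro u hu
    constructor
    · intro hu'
      obtain ⟨x, hx, rfl⟩ := hf.surj hu'
      rw [← hfbR x hx, hω1 x (Subgroup.mem_sup_left hx)]
      exact hx
    · intro hu'
      rw [← hω2 u hu, hfbR _ hu']
      exact hf.map_mem hu'
  have hNnorm : N ≤ Subgroup.normalizer ((R₁ ⊔ Q : Subgroup Ω) : Set Ω) := by
    have key : ∀ g ∈ N, ∀ x ∈ R₁ ⊔ Q, g * x * g⁻¹ ∈ R₁ ⊔ Q := by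
      intro g hg x hx
      have h1 := ((hN g).1 hg).2.1
      have h2 := h.Sp_le_normalizer (hNSp hg)
      have : R₁ ⊔ Q ≤ (R₁ ⊔ Q).comap (MulAut.conj g).toMonoidHom := by
        refine sup_le (fun y hy => ?_) (fun y hy => ?_)
        · exact Subgroup.mem_sup_left ((Subgroup.mem_normalizer_iff.1 h1 y).1 hy)
        · exact Subgroup.mem_sup_right ((Subgroup.mem_normalizer_iff.1 h2 y).1 hy)
      exact this hx
    intro g hg
    rw [Subgroup.mem_normalizer_iff]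
    intro x
    refine ⟨key g hg x, fun hx => ?_⟩
    have := key g⁻¹ (N.inv_mem hg) _ hx
    have e : g⁻¹ * (g * x * g⁻¹) * g⁻¹⁻¹ = x := by group
    rwa [e] at this
  -- every element of `N` induces an automorphism of `P ⊔ Q` through `ω`
  have hind : ∀ g ∈ N, ∃ β : MulAut ↥(P ⊔ Q), ∀ u : ↥(P ⊔ Q), g * ω u * g⁻¹ = ω (β u : ↥(P ⊔ Q)) := by
    intro g hg
    have hc : Mor F (R₁ ⊔ Q) (fun y => g * y * g⁻¹) := mor_conj F hfb.le (hNS hg)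
    have h1 : Mor F (P ⊔ Q) ((fun y => g * y * g⁻¹) ∘ ω) :=
      hω.1.comp hc (fun u hu => hω.map_mem hu)
    have h2 : Mor F (P ⊔ Q) (fb ∘ ((fun y => g * y * g⁻¹) ∘ ω)) := h1.comp hfb (fun u hu =>
      (Subgroup.mem_normalizer_iff.1 (hNnorm hg) _).1 (hω.map_mem hu))
    have h3 : Iso F (P ⊔ Q) (P ⊔ Q) (fb ∘ ((fun y => g * y * g⁻¹) ∘ ω)) := h2.iso_self (fun u hu =>
      hfbiso.map_mem ((Subgroup.mem_normalizer_iff.1 (hNnorm hg) _).1 (hω.map_mem hu)))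
    obtain ⟨β, _, hβ⟩ := h3.exists_aut
    refine ⟨β, fun u => ?_⟩
    rw [hβ]
    show _ = ω (fb (g * ω u * g⁻¹))
    rw [hω1 _ ((Subgroup.mem_normalizer_iff.1 (hNnorm hg) _).1 (hω.map_mem u.2))]
  set B := indAut N (P ⊔ Q) ω with hB
  have hBp : IsPGroup p B := isPGroup_indAut hω.1 (h.hS.to_le hNS)
  have hBF : B ≤ F.autGroup (P ⊔ Q) := indAut_le_autGroup hω.1 hNS
  have hBprop : ∀ b ∈ B, ∃ d ∈ autInducedBy S (P ⊔ Q) ⊓ KP Q K P, d⁻¹ * b ∈ A0 F Q K P := by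
    rintro β ⟨g, hg, e⟩
    obtain ⟨hgSp, hgR₁, k, hk, hkf⟩ := (hN g).1 hg
    obtain ⟨_, ℓg, hℓg, hlg⟩ := h.mem_Sp.1 hgSp
    -- `β ∈ K_P`
    have hβK : β ∈ KP Q K P := by
      refine ⟨fun u => ?_, κ₀ * ℓg * κ₀⁻¹, K.mul_mem (K.mul_mem hκ₀ hℓg) (K.inv_mem hκ₀),
        fun x => ?_⟩
      · rw [hωP u u.2, hωP _ (Subtype.prop _), ← e u]
        exact Subgroup.mem_normalizer_iff.1 hgR₁ _
      · apply Subtype.ext
        show ((β (iQ P x) : ↥(P ⊔ Q)) : Ω) = (κ₀ (ℓg (κ₀⁻¹ x)) : Q)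
        have h1 : ω (x : Ω) = (κ₀⁻¹ x : Q) := by
          have := hω1 (κ₀⁻¹ x : Q) (Subgroup.mem_sup_right (Subtype.prop _))
          rw [hfbQ, MulAut.apply_inv_self] at this
          exact this
        have h2 := e (iQ P x)
        have h3 : ω ((iQ P x : ↥(P ⊔ Q)) : Ω) = (κ₀⁻¹ x : Q) := h1
        rw [h3, hlg] at h2
        rw [← hω2 _ (Subtype.prop (β (iQ P x))), ← h2, hfbQ]
    -- `k` normalizes `P`
    have hkP : k ∈ normalizerIn Sp P := by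
      have : Finite P := finite_of_le (hP.trans h.Sp_le)
      rw [mem_normalizerIn_iff]
      refine ⟨hk, ?_⟩
      have hsub : ∀ y ∈ P, k * y * k⁻¹ ∈ P := by
        intro y hy
        obtain ⟨x, hx, rfl⟩ := hf.surj hy
        rw [← hkf x hx]
        exact hf.map_mem ((Subgroup.mem_normalizer_iff.1 hgR₁ x).1 hx)
      intro y
      refine ⟨hsub y, fun hy => ?_⟩
      have hinj : Function.Injective (fun y : P => (⟨k * y * k⁻¹, hsub y y.2⟩ : P)) := by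
        intro a b hab
        have : k * (a : Ω) * k⁻¹ = k * b * k⁻¹ := congrArg Subtype.val hab
        exact Subtype.ext (mul_left_cancel (mul_right_cancel this))
      obtain ⟨a, ha⟩ := (Finite.injective_iff_surjective.1 hinj) ⟨_, hy⟩
      have h1 : k * (a : Ω) * k⁻¹ = k * y * k⁻¹ := congrArg Subtype.val ha
      have h2 : (a : Ω) = y := mul_left_cancel (mul_right_cancel h1)
      rw [← h2]
      exact a.2
    rw [← h.NL_KP_id P] at hkP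
    obtain ⟨hkS, d, hd, hdk⟩ := hkP
    have hdS : d ∈ autInducedBy S (P ⊔ Q) :=
      (mem_autInducedBy_iff S _ _).2 ⟨k, hkS, fun x => (hdk x).symm⟩
    refine ⟨d, ⟨hdS, hd⟩, ⟨?_, ?_⟩, fun y => ?_⟩
    · exact Subgroup.mul_mem _ (Subgroup.inv_mem _ (autInducedBy_le_autGroup F hU hdS))
        (hBF ⟨g, hg, e⟩)
    · exact Subgroup.mul_mem _ (Subgroup.inv_mem _ hd) hβK
    · show d⁻¹ (β (iP Q y)) = iP Q y
      suffices hsuf : β (iP Q y) = d (iP Q y) by rw [hsuf, MulAut.inv_apply_self]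
      apply Subtype.ext
      obtain ⟨x, hx, hxy⟩ := hf.surj y.2
      have h1 : ω (y : Ω) = x := by
        rw [← hxy, ← hfbR x hx, hω1 x (Subgroup.mem_sup_left hx)]
      have h2 := e (iP Q y)
      have h3 : ω ((iP Q y : ↥(P ⊔ Q)) : Ω) = x := h1
      rw [h3] at h2
      have h4 : g * x * g⁻¹ ∈ R₁ := (Subgroup.mem_normalizer_iff.1 hgR₁ x).1 hx
      rw [← hω2 _ (Subtype.prop (β (iP Q y))), ← h2, hfbR _ h4, hkf x hx, hxy]
      exact hdk (iP Q y)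
  have hA0le : A0 F Q K P ≤ F.autGroup (P ⊔ Q) ⊓ KP Q K P := fun a ha => ha.1
  have hA0n : ∀ g ∈ F.autGroup (P ⊔ Q) ⊓ KP Q K P, ∀ x ∈ A0 F Q K P, g * x * g⁻¹ ∈ A0 F Q K P := by
    rintro g hg a ⟨ha, ea⟩
    refine ⟨Subgroup.mul_mem _ (Subgroup.mul_mem _ hg ha) (Subgroup.inv_mem _ hg), fun y => ?_⟩
    show g (a (g⁻¹ (iP Q y))) = iP Q y
    have hy : ((g⁻¹ (iP Q y) : ↥(P ⊔ Q)) : Ω) ∈ P :=
      ((Subgroup.inv_mem _ hg.2).1 (iP Q y)).1 y.2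
    have h1 : g⁻¹ (iP Q y) = iP Q ⟨_, hy⟩ := rfl
    rw [h1, ea, ← h1, MulAut.apply_inv_self]
  obtain ⟨β₀, hβ₀, hconj⟩ := exists_conj_normal hsyl hA0le hA0n hBp hBprop
  obtain ⟨⟨hβ₀F, hβ₀K⟩, hβ₀P⟩ := hβ₀
  obtain ⟨κ₁, hκ₁, hβ₀Q⟩ := hβ₀K.2
  have hβ₀iso : Iso F (P ⊔ Q) (P ⊔ Q) (autFun β₀) := iso_autFun ((mem_autGroup_iff F hU β₀).1 hβ₀F)
  have hθ : Iso F (R₁ ⊔ Q) (P ⊔ Q) (autFun β₀ ∘ fb) := hfbiso.trans hβ₀iso
  obtain ⟨fh, hfh, hfhe⟩ := receptive_extend hUr hθ N hNS hNnorm (by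
    intro g hg
    obtain ⟨β, hβ⟩ := hind g hg
    obtain ⟨k', hk', hk'e⟩ := (mem_autInducedBy_iff S _ _).1 (hconj β ⟨g, hg, hβ⟩).1
    refine ⟨k', hk', fun y hy => ?_⟩
    show autFun β₀ (fb (g * y * g⁻¹)) = k' * autFun β₀ (fb y) * k'⁻¹
    have hu : fb y ∈ P ⊔ Q := hfbiso.map_mem hy
    have h1 := hβ ⟨fb y, hu⟩
    have h1' : g * ω (fb y) * g⁻¹ = ω ((β ⟨fb y, hu⟩ : ↥(P ⊔ Q)) : Ω) := h1
    rw [hω1 y hy] at h1'
    rw [h1', hω2 _ (Subtype.prop _), autFun_coe, autFun_apply β₀ hu, ← hk'e]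
    show _ = ((β₀ (β (β₀⁻¹ (β₀ ⟨fb y, hu⟩))) : ↥(P ⊔ Q)) : Ω)
    rw [MulAut.inv_apply_self])
  refine ⟨fh, h.mor_E hNSp ⟨fh, hfh.mono (sup_le le_sup_right (le_sup_right.trans le_sup_left)),
    fun _ _ => rfl, κ₁ * κ₀, K.mul_mem hκ₁ hκ₀, fun x => ?_⟩, fun x hx => ?_⟩
  · rw [hfhe x (Subgroup.mem_sup_right x.2)]
    show autFun β₀ (fb x) = _
    rw [hfbQ, autFun_apply β₀ (Subgroup.mem_sup_right (Subtype.prop _))]
    exact congrArg Subtype.val (hβ₀Q (κ₀ x))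
  · rw [hfhe x (Subgroup.mem_sup_left hx)]
    show autFun β₀ (fb x) = _
    rw [hfbR x hx, autFun_apply β₀ (Subgroup.mem_sup_left (hf.map_mem hx))]
    exact congrArg Subtype.val (hβ₀P ⟨f x, hf.map_mem hx⟩)

end KSys

end Cfsg.Agent.Lib.Helper86.KNorm
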