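import Cfsg.Agent.Lib.Helper86.KNormSat2

set_option autoImplicit false

namespace Cfsg.Agent.Lib.Helper86.KNorm

open Cfsg Cfsg.FusionSystem Cfsg.Agent.Lib.Helper87

variable {Ω : Type*} [Group Ω] {S : Subgroup Ω}

namespace KSys

variable {p : ℕ} {F : FusionSystem S} {Q : Subgroup Ω} {K : Subgroup (MulAut Q)}
  {Sp : Subgroup Ω} {E : FusionSystem Sp}

/-- (a): every subgroup of `Sp` is `E`-conjugate to a `P₁` with `P₁ ⊔ Q` fully `K_{P₁}`-normalized. -/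
theorem exists_full_conj [Finite S] [Fact p.Prime] (h : KSys p F Q K Sp E) {P : Subgroup Ω}
    (hP : P ≤ Sp) : ∃ P₁, E.IsConj P P₁ ∧ P₁ ≤ Sp ∧
      ∀ φ', Mor F (P₁ ⊔ Q) φ' → Nat.card (NL S (P₁ ⊔ Q) (KP Q K P₁) φ') ≤
        Nat.card (NL S (P₁ ⊔ Q) (KP Q K P₁) id) := by
  have hU := h.sup_le_S hP
  obtain ⟨hQr, hQs⟩ := full_receptive_sylow h.hS h.sat h.hQ h.full
  obtain ⟨φ, hφ, hmax⟩ := exists_max_of_bounded (fun φ => Mor F (P ⊔ Q) φ)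
    (fun φ => Nat.card (NL S (P ⊔ Q) (KP Q K P) φ)) (Nat.card S) ⟨id, mor_id F hU⟩
    (fun φ _ => Subgroup.card_le_of_le (NL_le _ _ _ _))
  have hφQ : Mor F Q φ := hφ.mono le_sup_right
  obtain ⟨χ, hχ, θ, hθ, hθφ⟩ := exists_extension h.hS hQr hQs hφQ
  have hPN : ∀ g ∈ P, φ g ∈ NL S Q K φ := by
    intro g hg
    obtain ⟨_, ℓ, hℓ, hl⟩ := h.mem_Sp.1 (hP hg)
    refine ⟨hφ.mem (Subgroup.mem_sup_left hg), ℓ, hℓ, fun x => ?_⟩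
    rw [← hφ.map_conj (Subgroup.mem_sup_left hg) (Subgroup.mem_sup_right x.2), hl]
  have hUD : ∀ u ∈ P ⊔ Q, φ u ∈ img Q φ ⊔ NL S Q K φ := hφ.map_sup_mem
    (fun x hx => Subgroup.mem_sup_right (hPN x hx))
    (fun x hx => Subgroup.mem_sup_left (hφQ.iso_img.map_mem hx))
  have hf₁ : Mor F (P ⊔ Q) (θ ∘ φ) := hφ.comp hθ hUD
  set f₁ := θ ∘ φ with hf₁def
  have hf₁Q : ∀ x : Q, f₁ x = (χ x : Q) := hθφ
  set P₁ := img P f₁ with hP₁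
  have hf₁P : Mor F P f₁ := hf₁.mono le_sup_left
  have hP₁mem : ∀ y, y ∈ P₁ ↔ ∃ x ∈ P, f₁ x = y := hf₁P.mem_img
  have hiso : Iso F (P ⊔ Q) (P₁ ⊔ Q) f₁ := hf₁.iso_sup hP₁mem (fun y => by
    constructor
    · intro hy
      refine ⟨(χ⁻¹ ⟨y, hy⟩ : Q), Subtype.prop _, ?_⟩
      rw [hf₁Q, MulAut.apply_inv_self]
    · rintro ⟨x, hx, rfl⟩
      rw [hf₁Q ⟨x, hx⟩]
      exact Subtype.prop _)
  have hP₁Sp : P₁ ≤ Sp := by
    intro y hy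
    obtain ⟨x, hx, rfl⟩ := (hP₁mem y).1 hy
    exact h.map_mem_Sp hP hf₁ hχ.2 hf₁Q x hx
  have hE₁ : Mor E P f₁ := h.mor_E hP ⟨f₁, hf₁, fun _ _ => rfl, χ, hχ.2, hf₁Q⟩
  refine ⟨P₁, (isConj_iff E P P₁).2 ⟨f₁, hE₁, hP₁mem⟩, hP₁Sp, fun φ' hφ' => ?_⟩
  -- transport
  set e := hiso.toMulEquiv with he
  have he_apply : ∀ u : ↥(P ⊔ Q), f₁ u = (e u : ↥(P₁ ⊔ Q)) := fun u => rfl
  have heP : ∀ u : ↥(P ⊔ Q), (u : Ω) ∈ P ↔ ((e u : ↥(P₁ ⊔ Q)) : Ω) ∈ P₁ := by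
    intro u
    rw [← he_apply, hP₁mem]
    constructor
    · intro hu
      exact ⟨u, hu, rfl⟩
    · rintro ⟨x, hx, hxu⟩
      have := hf₁.inj (Subgroup.mem_sup_left hx) u.2 hxu
      rw [← this]
      exact hx
  have heQ : ∀ x : Q, e (iQ P x) = iQ P₁ (χ x) := fun x => Subtype.ext (hf₁Q x)
  have ht1 : ∀ ℓ ∈ KP Q K P, MulAut.congr e ℓ ∈ KP Q K P₁ := fun ℓ hℓ =>
    KP_congr e heP hχ.2 heQ hℓ
  have ht2 : ∀ ℓ' ∈ KP Q K P₁, MulAut.congr e.symm ℓ' ∈ KP Q K P := fun ℓ' hℓ' =>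
    KP_congr e.symm (fun u' => by
      conv_lhs => rw [← e.apply_symm_apply u']
      exact (heP _).symm) (K.inv_mem hχ.2) (fun x => by
      rw [MulEquiv.symm_apply_eq, heQ, MulAut.apply_inv_self]) hℓ'
  rw [NL_transport (S := S) e ht1 ht2 f₁ he_apply φ', NL_transport (S := S) e ht1 ht2 f₁ he_apply id]
  have h1 : Nat.card (NL S (P ⊔ Q) (KP Q K P) (φ' ∘ f₁)) ≤ Nat.card (NL S (P ⊔ Q) (KP Q K P) φ) :=
    hmax _ (hf₁.comp hφ' (fun u hu => hiso.map_mem hu))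
  refine h1.trans ?_
  have hle : NL S (P ⊔ Q) (KP Q K P) φ ≤ NL S Q K φ := by
    rintro g ⟨hg, ℓ, ⟨_, κ, hκ, hk⟩, hl⟩
    refine ⟨hg, κ, hκ, fun x => ?_⟩
    have := hl (iQ P x)
    rw [hk] at this
    exact this
  refine hθ.card_le (hle.trans le_sup_right) (NL_le _ _ _ _) ?_
  intro g hg
  have hgD : g ∈ img Q φ ⊔ NL S Q K φ := Subgroup.mem_sup_right (hle hg)
  obtain ⟨_, ℓ, hℓ, hl⟩ := hg
  refine ⟨hθ.mem hgD, ℓ, hℓ, fun u => ?_⟩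
  show θ g * θ (φ u) * (θ g)⁻¹ = θ (φ (ℓ u : ↥(P ⊔ Q)))
  rw [← hθ.map_conj hgD (hUD u u.2), hl]

/-- AKO I.5.5: the `K`-normalizer system of a fully `K`-normalized subgroup is saturated. -/
theorem saturated [Finite S] [Fact p.Prime] (h : KSys p F Q K Sp E) : E.IsSaturated p := by
  intro P hP
  obtain ⟨P₁, hconj, hP₁, hfull⟩ := h.exists_full_conj hP
  obtain ⟨hr, hs⟩ := full_receptive_sylow h.hS h.sat (h.sup_le_S hP₁) hfull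
  exact ⟨P₁, hconj, h.fullyAutomized hP₁ hs, h.receptive hP₁ hr hs⟩

end KSys

end Cfsg.Agent.Lib.Helper86.KNorm
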