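import Mathlib
import Cfsg.Agent.Lib.Helper3.MaxClass

set_option autoImplicit false

universe u

namespace Cfsg.Agent.Lib.Helper86.MaxClass

theorem facts {X : Type u} [Group X] [Finite X] {p n : ℕ} [Fact p.Prime]
    (hX : Nat.card X = p ^ n) (h4 : 4 ≤ n) (hc : Group.nilpotencyClass X = n - 1) :
    Nat.card (Subgroup.center X) = p ∧ ∃ w0 ∈ Subgroup.upperCentralSeries X 2,
      w0 ∉ Subgroup.center X ∧ ∀ w ∈ Subgroup.upperCentralSeries X 2,
        ∃ z ∈ Subgroup.center X, ∃ k : ℤ, w = z * w0 ^ k := by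
  have hZ := Helper3.card_center_of_maxClass (by omega) hX hc
  have hQ := Helper3.card_quotient_center_of_maxClass (by omega) hX hc
  have hnil : Group.IsNilpotent X := (IsPGroup.of_card hX).isNilpotent
  have hcQ : Group.nilpotencyClass (X ⧸ Subgroup.center X) = (n - 1) - 1 := by
    rw [Group.nilpotencyClass_quotient_center, hc]
  have hZQ := Helper3.card_center_of_maxClass (by omega) hQ hcQ
  have hmem : ∀ w : X, w ∈ Subgroup.upperCentralSeries X 2 ↔
      (QuotientGroup.mk' (Subgroup.center X) w) ∈ Subgroup.center (X ⧸ Subgroup.center X) := by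
    intro w
    rw [← Subgroup.comap_upperCentralSeries_quotient_center, Subgroup.mem_comap,
      Subgroup.upperCentralSeries_one]
  have hnt : Nontrivial (Subgroup.center (X ⧸ Subgroup.center X)) := by
    rw [← Finite.one_lt_card_iff_nontrivial, hZQ]
    exact (Fact.out : p.Prime).one_lt
  obtain ⟨q0, hq0⟩ := exists_ne (1 : Subgroup.center (X ⧸ Subgroup.center X))
  obtain ⟨w0, hw0⟩ := QuotientGroup.mk'_surjective (Subgroup.center X) (q0 : X ⧸ Subgroup.center X)
  refine ⟨hZ, w0, (hmem w0).2 (hw0 ▸ q0.2), ?_, fun w hw => ?_⟩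
  · intro h
    apply hq0
    apply Subtype.ext
    rw [← hw0]
    exact (QuotientGroup.eq_one_iff w0).2 h
  · have h1 := mem_zpowers_of_prime_card hZQ hq0
      (g' := ⟨QuotientGroup.mk' (Subgroup.center X) w, (hmem w).1 hw⟩)
    obtain ⟨k, hk⟩ := Subgroup.mem_zpowers_iff.1 h1
    have hk' : (QuotientGroup.mk' (Subgroup.center X) w0) ^ k =
        QuotientGroup.mk' (Subgroup.center X) w := by
      have := congrArg Subtype.val hk
      rw [hw0]
      simpa using this
    refine ⟨w * (w0 ^ k)⁻¹, ?_, k, by group⟩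
    rw [← QuotientGroup.eq_one_iff]
    show QuotientGroup.mk' (Subgroup.center X) (w * (w0 ^ k)⁻¹) = 1
    rw [map_mul, map_inv, map_zpow, hk', mul_inv_cancel]

/-- `s ↦ [w0, s]` as a homomorphism, when all these commutators are central. -/
def cHom {X : Type u} [Group X] (w0 : X) (h : ∀ s, w0 * s * w0⁻¹ * s⁻¹ ∈ Subgroup.center X) :
    X →* X where
  toFun s := w0 * s * w0⁻¹ * s⁻¹
  map_one' := by simp
  map_mul' s t := by
    have h1 := Subgroup.mem_center_iff.1 (h t) s
    calc w0 * (s * t) * w0⁻¹ * (s * t)⁻¹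
        = w0 * s * w0⁻¹ * (s⁻¹ * (s * (w0 * t * w0⁻¹ * t⁻¹))) * s⁻¹ := by group
      _ = w0 * s * w0⁻¹ * (s⁻¹ * ((w0 * t * w0⁻¹ * t⁻¹) * s)) * s⁻¹ := by rw [h1]
      _ = _ := by group

theorem eq_top_of_centralizer_lt {X : Type u} [Group X] [Finite X] {p n : ℕ} [Fact p.Prime]
    (hX : Nat.card X = p ^ n) (h4 : 4 ≤ n) (hc : Group.nilpotencyClass X = n - 1)
    (Q : Subgroup X)
    (hQ : Subgroup.centralizer (Subgroup.upperCentralSeries X 2 : Set X) ≤ Q) {g : X}
    (hg : g ∈ Q) (hgC : g ∉ Subgroup.centralizer (Subgroup.upperCentralSeries X 2 : Set X)) :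
    Q = ⊤ := by
  obtain ⟨hZ, w0, hw0, hw0Z, hgen⟩ := facts hX h4 hc
  have hcen : ∀ s, w0 * s * w0⁻¹ * s⁻¹ ∈ Subgroup.center X := by
    intro s
    have := Subgroup.mem_upperCentralSeries_succ_iff.1 hw0 s
    rwa [Subgroup.upperCentralSeries_one] at this
  have hC : ∀ s : X, w0 * s = s * w0 →
      s ∈ Subgroup.centralizer (Subgroup.upperCentralSeries X 2 : Set X) := by
    intro s hs
    rw [Subgroup.mem_centralizer_iff]
    intro w hw
    obtain ⟨z, hz, k, rfl⟩ := hgen w hw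
    have h1 : w0 ^ k * s = s * w0 ^ k := ((Commute.zpow_left (hs : Commute w0 s)) k).eq
    have h2 := Subgroup.mem_center_iff.1 hz s
    calc z * w0 ^ k * s = z * (w0 ^ k * s) := by group
      _ = z * (s * w0 ^ k) := by rw [h1]
      _ = (z * s) * w0 ^ k := by group
      _ = (s * z) * w0 ^ k := by rw [h2]
      _ = s * (z * w0 ^ k) := by group
  set c := cHom w0 hcen with hcdef
  have hcapp : ∀ s, c s = w0 * s * w0⁻¹ * s⁻¹ := fun _ => rfl
  have hcg : c g ≠ 1 := by
    intro h1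
    apply hgC
    apply hC
    rw [hcapp] at h1
    have h2 : w0 * g = (w0 * g * w0⁻¹ * g⁻¹) * (g * w0) := by group
    rw [h2, h1, one_mul]
  rw [eq_top_iff]
  intro s _
  have h1 := mem_zpowers_of_prime_card hZ (g := (⟨c g, hcen g⟩ : Subgroup.center X))
    (g' := ⟨c s, hcen s⟩) (fun h => hcg (congrArg Subtype.val h))
  obtain ⟨k, hk⟩ := Subgroup.mem_zpowers_iff.1 h1
  have hk' : c g ^ k = c s := by
    have := congrArg Subtype.val hk
    simpa using this
  have h2 : c (s * (g ^ k)⁻¹) = 1 := by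
    rw [map_mul, map_inv, map_zpow, hk', mul_inv_cancel]
  have h3 : s * (g ^ k)⁻¹ ∈ Q := by
    apply hQ
    apply hC
    rw [hcapp] at h2
    set t := s * (g ^ k)⁻¹
    have h4 : w0 * t = (w0 * t * w0⁻¹ * t⁻¹) * (t * w0) := by group
    rw [h4, h2, one_mul]
  have := Q.mul_mem h3 (Q.zpow_mem hg k)
  rwa [inv_mul_cancel_right] at this

theorem le_centralizer {X : Type u} [Group X] [Finite X] {p n : ℕ} [Fact p.Prime]
    (hX : Nat.card X = p ^ n) (h4 : 4 ≤ n) (hc : Group.nilpotencyClass X = n - 1) :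
    Subgroup.upperCentralSeries X 2 ≤
      Subgroup.centralizer (Subgroup.upperCentralSeries X 2 : Set X) := by
  obtain ⟨hZ, w0, hw0, hw0Z, hgen⟩ := facts hX h4 hc
  intro v hv
  rw [Subgroup.mem_centralizer_iff]
  intro w hw
  obtain ⟨z, hz, k, rfl⟩ := hgen w hw
  obtain ⟨z', hz', l, rfl⟩ := hgen v hv
  have h1 := Subgroup.mem_center_iff.1 hz
  have h2 := Subgroup.mem_center_iff.1 hz'
  calc z * w0 ^ k * (z' * w0 ^ l) = z * (w0 ^ k * z') * w0 ^ l := by group
    _ = z * (z' * w0 ^ k) * w0 ^ l := by rw [h2]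
    _ = (z * z') * (w0 ^ k * w0 ^ l) := by group
    _ = (z' * z) * (w0 ^ l * w0 ^ k) := by
        rw [← h2 z, ← zpow_add, ← zpow_add, add_comm]
    _ = z' * (z * w0 ^ l) * w0 ^ k := by group
    _ = z' * (w0 ^ l * z) * w0 ^ k := by rw [h1]
    _ = z' * w0 ^ l * (z * w0 ^ k) := by group

theorem centralizer_ne_top {X : Type u} [Group X] [Finite X] {p n : ℕ} [Fact p.Prime]
    (hX : Nat.card X = p ^ n) (h4 : 4 ≤ n) (hc : Group.nilpotencyClass X = n - 1) :
    Subgroup.centralizer (Subgroup.upperCentralSeries X 2 : Set X) ≠ ⊤ := by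
  obtain ⟨hZ, w0, hw0, hw0Z, hgen⟩ := facts hX h4 hc
  intro h
  apply hw0Z
  rw [Subgroup.mem_center_iff]
  intro s
  have hs : s ∈ Subgroup.centralizer (Subgroup.upperCentralSeries X 2 : Set X) := by
    rw [h]; trivial
  exact ((Subgroup.mem_centralizer_iff.1 hs) w0 hw0).symm

end Cfsg.Agent.Lib.Helper86.MaxClass
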