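import Cfsg.Agent.Lib.Helper86.FusionAlperin
import Cfsg.Agent.Lib.Helper87.PPowerExt

set_option autoImplicit false

namespace Cfsg.Agent.Lib.Helper86.Rank2

open Cfsg Cfsg.FusionSystem Cfsg.Agent.Lib
open Cfsg.Agent.Lib.Helper87 (Mor Iso autFun img)

variable {Ω : Type*} [Group Ω] {S : Subgroup Ω}

/-- Alperin's fusion theorem for a class of maps closed under the usual operations. -/
theorem alperin_class [Finite S] {p : ℕ} [Fact p.Prime] (hS : IsPGroup p S) (F : FusionSystem S)
    (hF : F.IsSaturated p) (C : Subgroup Ω → (Ω → Ω) → Prop)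
    (hcongr : ∀ {P : Subgroup Ω} {f g : Ω → Ω}, C P f → (∀ x ∈ P, f x = g x) → C P g)
    (hmono : ∀ {P R : Subgroup Ω} {f : Ω → Ω}, Mor F P f → C P f → R ≤ P → C R f)
    (hcomp : ∀ {P Q : Subgroup Ω} {f g : Ω → Ω}, Mor F P f → Mor F Q g → C P f → C Q g →
      (∀ x ∈ P, f x ∈ Q) → C P (g ∘ f))
    (hinv : ∀ {P Q : Subgroup Ω} {f g : Ω → Ω}, Iso F P Q f → Iso F Q P g →
      (∀ x ∈ P, g (f x) = x) → C P f → C Q g)
    (hE : ∀ P : Subgroup Ω, (P = S ∨ F.IsEssential p P) → ∀ α ∈ F.autGroup P, C P (autFun α)) :
    ∀ (P : Subgroup Ω) (f : Ω → Ω), Mor F P f → C P f := by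
  have main : ∀ (n : ℕ) (P : Subgroup Ω), P ≤ S → Nat.card S - Nat.card P = n →
      ∀ f, Mor F P f → C P f := by
    intro n
    induction n using Nat.strong_induction_on with
    | _ n ih =>
      intro P hPS hn f hf
      have autC : ∀ R : Subgroup Ω, R ≤ S → (∀ α ∈ F.autGroup R, C R (autFun α)) →
          ∀ g, Iso F R R g → C R g := by
        intro R _ h g hg
        obtain ⟨α, hα, hαf⟩ := hg.exists_aut
        exact hcongr (h α hα) (fun x hx => by rw [Helper87.autFun_apply _ hx]; exact hαf ⟨x, hx⟩)
      rcases eq_or_lt_of_le hPS with rfl | hlt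
      · exact autC P le_rfl (hE P (Or.inl rfl)) f (hf.iso_self (fun x hx => hf.mem hx))
      · have hPc : Nat.card P < Nat.card S := card_lt_of_lt hlt
        have big : ∀ Q : Subgroup Ω, Q ≤ S → Nat.card P < Nat.card Q →
            ∀ g, Mor F Q g → C Q g := by
          intro Q hQ hc g hg
          have hQc : Nat.card Q ≤ Nat.card S := Subgroup.card_le_of_le hQ
          exact ih (Nat.card S - Nat.card Q) (by omega) Q hQ rfl g hg
        have bigN : ∀ P' : Subgroup Ω, P' ≤ S → Nat.card P' = Nat.card P →
            ∀ g, Mor F (normalizerIn S P') g → C (normalizerIn S P') g := by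
          intro P' hP' hc g hg
          have : Finite (normalizerIn S P') := finite_of_le (S := S) inf_le_left
          refine big _ inf_le_left ?_ g hg
          rw [← hc]
          exact @card_lt_of_lt _ _ _ (normalizerIn S P') this
            (lt_normalizerIn hS (lt_of_card_lt hP' (hc ▸ hPc)))
        obtain ⟨R, hPR, hRn⟩ := exists_fullyNormalized_conj F hPS
        have hRS : R ≤ S := hRn.1
        have hRa := sat_fullyAutomized_of_fullyNormalized hS F hF hRn
        have hRr := sat_receptive_of_fullyNormalized hS F hF hRn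
        have hiso : Iso F P (img P f) f := hf.iso_img
        have hQS : img P f ≤ S := hiso.le'
        have hQR : F.IsConj (img P f) R := isConj_trans (isConj_symm hiso.isConj) hPR
        obtain ⟨χ1, h1m, -, h1i⟩ := exists_mor_normalizer hS F hRa hRr hPR
        obtain ⟨χ2, h2m, -, h2i⟩ := exists_mor_normalizer hS F hRa hRr hQR
        have hPN : P ≤ normalizerIn S P := le_inf hPS Subgroup.le_normalizer
        have hQN : img P f ≤ normalizerIn S (img P f) := le_inf hQS Subgroup.le_normalizer
        have hC1 : C P χ1 := hmono h1m (bigN P hPS rfl _ h1m) hPN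
        have hC2 : C (img P f) χ2 := hmono h2m (bigN _ hQS hiso.card_eq.symm _ h2m) hQN
        have hF1 : Iso F P R χ1 := ⟨h1m.mono hPN, h1i⟩
        have hF2 : Iso F (img P f) R χ2 := ⟨h2m.mono hQN, h2i⟩
        obtain ⟨χ1', hχ1', hl1, -⟩ := hF1.symm
        have hα : Iso F R R (χ2 ∘ (f ∘ χ1')) := (hχ1'.trans hiso).trans hF2
        have hRc : Nat.card R = Nat.card P := (isConj_card_eq hPR).symm
        have hRlt : R < S := lt_of_card_lt hRS (hRc ▸ hPc)
        have hAut : ∀ α ∈ F.autGroup R, C R (autFun α) := by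
          rcases extendable_dichotomy hS F hF hRlt hRn with ⟨-, hcl⟩ | ⟨hess, -⟩
          · intro α hα
            rw [← hcl] at hα
            have hsub : Subgroup.closure (extGens F R) ≤ F.autGroup R := by rw [hcl]
            induction hα using Subgroup.closure_induction with
            | mem a ha =>
              obtain ⟨Q', hRQ', φ, hφ, hφα⟩ := ha
              have hQ'S := (F.le_of_mem hφ).1
              have : Finite Q' := finite_of_le hQ'S
              have h3 : C Q' (Helper87.ext φ) :=
                big Q' hQ'S (hRc ▸ card_lt_of_lt hRQ') _ (Helper87.Mor.of_hom hφ)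
              refine hcongr (hmono (Helper87.Mor.of_hom hφ) h3 hRQ'.le) (fun x hx => ?_)
              rw [Helper87.autFun_apply _ hx, ← hφα ⟨x, hx⟩]
              exact Helper87.ext_apply φ (hRQ'.le hx)
            | one =>
              have h1 : Iso F R R id := Helper87.Iso.refl F hRS
              -- the identity is `χ ∘ χ⁻¹`
              have hc := hcomp hχ1'.mor hF1.mor (hinv hF1 hχ1' hl1 hC1) hC1
                (fun x hx => hχ1'.map_mem hx)
              refine hcongr hc (fun x hx => ?_)
              rw [Helper87.autFun_one hx]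
              obtain ⟨y, hy, rfl⟩ := hF1.surj hx
              simp only [Function.comp]
              rw [hl1 y hy]
            | mul a b ha hb iha ihb =>
              have ham := (Helper87.mem_autGroup_iff F hRS a).1 (hsub ha)
              have hbm := (Helper87.mem_autGroup_iff F hRS b).1 (hsub hb)
              refine hcongr (hcomp hbm ham ihb iha (fun x hx => Helper87.autFun_mem b hx))
                (fun x hx => ?_)
              rw [Helper87.autFun_mul a b hx]
              rfl
            | inv a ha iha =>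
              have ham := (Helper87.mem_autGroup_iff F hRS a).1 (hsub ha)
              have ham' := (Helper87.mem_autGroup_iff F hRS a⁻¹).1
                ((F.autGroup R).inv_mem (hsub ha))
              have : Finite R := finite_of_le hRS
              exact hinv (ham.iso_self (fun x hx => Helper87.autFun_mem a hx))
                (ham'.iso_self (fun x hx => Helper87.autFun_mem a⁻¹ hx))
                (fun x hx => Helper87.autFun_inv_autFun a hx) iha
          · exact hE R (Or.inr hess)
        have hαC : C R (χ2 ∘ (f ∘ χ1')) := autC R hRS hAut _ hα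
        obtain ⟨χ2', hχ2', hl2, -⟩ := hF2.symm
        have hC2' : C R χ2' := hinv hF2 hχ2' hl2 hC2
        have h4 := hcomp (hF1.mor.comp hα.mor (fun x hx => hF1.map_mem hx)) hχ2'.mor
          (hcomp hF1.mor hα.mor hC1 hαC (fun x hx => hF1.map_mem hx)) hC2'
          (fun x hx => hα.map_mem (hF1.map_mem hx))
        refine hcongr h4 (fun x hx => ?_)
        simp only [Function.comp]
        rw [hl1 x hx, hl2 _ (hiso.map_mem hx)]
  intro P f hf
  exact main _ P hf.le rfl f hf

/-- F2: maps defined on subgroups larger than all essential subgroups extend to `Aut_F(S)`. -/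
theorem exists_extension_of_card [Finite S] {p : ℕ} [Fact p.Prime] (hS : IsPGroup p S)
    (F : FusionSystem S) (hF : F.IsSaturated p) (N : ℕ)
    (hall : ∀ E' : Subgroup Ω, F.IsEssential p E' → Nat.card E' < N)
    {P : Subgroup Ω} {f : Ω → Ω} (hf : Mor F P f) (hP : N ≤ Nat.card P) :
    ∃ β ∈ F.autGroup S, ∀ x ∈ P, autFun β x = f x := by
  refine alperin_class hS F hF
    (fun P f => N ≤ Nat.card P → ∃ β ∈ F.autGroup S, ∀ x ∈ P, autFun β x = f x)
    ?_ ?_ ?_ ?_ ?_ P f hf hP
  · intro P f g h hfg hN
    obtain ⟨β, hβ, h1⟩ := h hN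
    exact ⟨β, hβ, fun x hx => (h1 x hx).trans (hfg x hx)⟩
  · intro P R f hf h hRP hN
    have : Finite P := finite_of_le hf.le
    obtain ⟨β, hβ, h1⟩ := h (hN.trans (Subgroup.card_le_of_le hRP))
    exact ⟨β, hβ, fun x hx => h1 x (hRP hx)⟩
  · intro P Q f g hf hg h1 h2 hPQ hN
    have : Finite Q := finite_of_le hg.le
    have hle : img P f ≤ Q := by
      intro y hy
      obtain ⟨x, hx, rfl⟩ := (hf.mem_img y).1 hy
      exact hPQ x hx
    have hc : Nat.card P ≤ Nat.card Q := by
      rw [hf.iso_img.card_eq]
      exact Subgroup.card_le_of_le hle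
    obtain ⟨β, hβ, e1⟩ := h1 hN
    obtain ⟨γ, hγ, e2⟩ := h2 (hN.trans hc)
    refine ⟨γ * β, (F.autGroup S).mul_mem hγ hβ, fun x hx => ?_⟩
    rw [Helper87.autFun_mul γ β (hf.le hx), e1 x hx, e2 _ (hPQ x hx)]
    rfl
  · intro P Q f g hf hg hgf h hN
    obtain ⟨β, hβ, e1⟩ := h (by rw [hf.card_eq]; exact hN)
    refine ⟨β⁻¹, (F.autGroup S).inv_mem hβ, fun y hy => ?_⟩
    obtain ⟨x, hx, rfl⟩ := hf.surj hy
    rw [hgf x hx, ← e1 x hx, Helper87.autFun_inv_autFun β (hf.le hx)]
  · intro P hP α hα hN
    rcases hP with rfl | hP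
    · exact ⟨α, hα, fun x _ => rfl⟩
    · exact absurd (hall P hP) (by omega)

end Cfsg.Agent.Lib.Helper86.Rank2
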