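import Cfsg.Agent.Lib.Helper86.OliverA
import Cfsg.Agent.Lib.Helper89.OddStab
import Cfsg.Agent.S5080

set_option autoImplicit false

namespace Cfsg.Agent.Lib.Helper86.Rank2

open Cfsg Cfsg.FusionSystem Cfsg.Agent.Lib

/-- Elements of `A` stabilizing an `A`-invariant chain, on whose top term the elements of `A` of order
prime to `p` act faithfully, lie in `O_p(A)`. -/
theorem mem_pCore_of_stab_faithful {P : Type*} [Group P] [Finite P] {p : ℕ} [Fact p.Prime]
    (hP : IsPGroup p P) (A : Subgroup (MulAut P)) (n : ℕ) (X : ℕ → Subgroup P) (h0 : X 0 = ⊥)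
    (hinv : ∀ i, ∀ α ∈ A, ∀ x ∈ X i, α x ∈ X i)
    (hfaith : ∀ a ∈ A, (orderOf a).Coprime p → (∀ x ∈ X n, a x = x) → a = 1)
    (β : MulAut P) (hβ : β ∈ A) (hstab : ∀ i < n, ∀ x ∈ X (i + 1), x⁻¹ * β x ∈ X i) :
    β ∈ (Cfsg.pCore p A).map A.subtype := by
  let U : Fin n → Subgroup P := fun i => X (i + 1)
  let V : Fin n → Subgroup P := fun i => X i
  have hU : ∀ j, ∀ α ∈ A, ∀ x ∈ U j, α x ∈ U j := fun j α hα x hx => hinv _ α hα x hx
  have hV : ∀ j, ∀ α ∈ A, ∀ x ∈ V j, α x ∈ V j := fun j α hα x hx => hinv _ α hα x hx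
  have hKn := Helper89.stabSubgroup_normal A U V hU hV
  have hKp : IsPGroup p (Helper89.stabSubgroup A U V hU hV) := by
    apply Helper89.isPGroup_of_coprime_trivial
    rintro ⟨γ, hγ⟩ hcop
    have hord : orderOf (γ : MulAut P) = orderOf (⟨γ, hγ⟩ : Helper89.stabSubgroup A U V hU hV) := by
      rw [← Subgroup.orderOf_coe, ← Subgroup.orderOf_coe]
    have hcop' : Nat.Coprime (orderOf (γ : MulAut P)) p := hord ▸ hcop
    obtain ⟨k, hk⟩ := Helper89.exists_pow_fix_of_stabilizes_chain hP (γ : MulAut P) n X h0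
      (fun i => hinv i _ γ.2) (fun i hi x hx => hγ ⟨i, hi⟩ x hx)
    have h1 : (γ : MulAut P) = 1 := by
      refine hfaith _ γ.2 hcop' (fun x hx => ?_)
      refine Helper89.fix_of_coprime_pow _ x _ _ (Nat.Coprime.pow_left k hcop'.symm) (hk x hx) ?_
      rw [pow_orderOf_eq_one]; rfl
    apply Subtype.ext
    apply Subtype.ext
    exact h1
  have hle : Helper89.stabSubgroup A U V hU hV ≤ Cfsg.pCore p A := le_sSup ⟨hKn, hKp⟩
  exact ⟨⟨β, hβ⟩, hle (fun j x hx => hstab j j.2 x hx), rfl⟩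

/-- An automorphism of `p`-power order acts trivially on an invariant section of order `p`. -/
theorem stab_of_card_eq {P : Type*} [Group P] [Finite P] {p : ℕ} [hp : Fact p.Prime]
    (hP : IsPGroup p P) (γ : MulAut P) (k : ℕ) (hγ : γ ^ (p ^ k) = 1) (X Y : Subgroup P)
    (hXY : X ≤ Y) (hcard : Nat.card Y = p * Nat.card X) (hX : ∀ x ∈ X, γ x ∈ X)
    (hY : ∀ x ∈ Y, γ x ∈ Y) : ∀ y ∈ Y, y⁻¹ * γ y ∈ X := by
  set e := Helper89.restrictAut γ Y hY with he
  set N : Subgroup Y := X.subgroupOf Y with hN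
  have hNcard : Nat.card N = Nat.card X :=
    Nat.card_congr (Subgroup.subgroupOfEquivOfLe hXY).toEquiv
  have hidx : N.index = p := by
    have h1 := N.card_mul_index
    rw [hNcard, hcard, mul_comm] at h1
    exact Nat.eq_of_mul_eq_mul_right Nat.card_pos h1
  have hYp : IsPGroup p Y := hP.to_subgroup Y
  have hNn : N.Normal := by
    apply Subgroup.normal_of_index_eq_minFac_card
    rw [hidx]
    obtain ⟨m, hm⟩ := hYp.exists_card_eq
    have hm0 : m ≠ 0 := by
      rintro rfl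
      rw [pow_zero] at hm
      rw [hm] at hcard
      have : p ∣ 1 := ⟨_, hcard⟩
      exact hp.out.one_lt.ne' (Nat.dvd_one.1 this)
    rw [hm, hp.out.pow_minFac hm0]
  have hmap : N.map (e : Y ≃* Y).toMonoidHom = N := by
    apply Subgroup.eq_of_le_of_card_ge
    · rintro _ ⟨x, hx, rfl⟩
      exact hX _ hx
    · have hinj : Function.Injective (e : Y ≃* Y).toMonoidHom := e.injective
      exact (Subgroup.card_map_of_injective (K := N) hinj).ge
  set g : MulAut (Y ⧸ N) := QuotientGroup.congr N N e hmap with hg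
  have hpow : ∀ (n : ℕ) (y : Y), (g ^ n) (QuotientGroup.mk y) = QuotientGroup.mk ((e ^ n) y) := by
    intro n
    induction n with
    | zero => intro y; simp
    | succ n ih =>
      intro y
      rw [pow_succ, MulAut.mul_apply, pow_succ, MulAut.mul_apply, ← ih]
      rfl
  have hgp : g ^ (p ^ k) = 1 := by
    ext q
    obtain ⟨y, rfl⟩ := QuotientGroup.mk_surjective q
    rw [hpow]
    congr 1
    apply Subtype.ext
    rw [he, Helper89.restrictAut_pow_apply, hγ]
    rfl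
  have hQcard : Nat.card (Y ⧸ N) = p := hidx
  have hcyc : IsCyclic (Y ⧸ N) := isCyclic_of_prime_card hQcard
  have h1 : orderOf g ∣ p ^ k := orderOf_dvd_of_pow_eq_one hgp
  have h2 : orderOf g ∣ p - 1 := by
    have := orderOf_dvd_natCard g
    rwa [IsCyclic.card_mulAut, hQcard, Nat.totient_prime hp.out] at this
  have hcop : Nat.Coprime (p ^ k) (p - 1) := by
    apply Nat.Coprime.pow_left
    rw [Nat.Prime.coprime_iff_not_dvd hp.out]
    intro hd
    have h0 : 0 < p - 1 := by have := hp.out.two_le; omega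
    have := Nat.le_of_dvd h0 hd
    omega
  have hg1 : g = 1 := orderOf_eq_one_iff.1 (Nat.eq_one_of_dvd_coprimes hcop h1 h2)
  intro y hy
  have h3 : g (QuotientGroup.mk ⟨y, hy⟩) = QuotientGroup.mk ⟨y, hy⟩ := by rw [hg1]; rfl
  have h4 : (QuotientGroup.mk (e ⟨y, hy⟩) : Y ⧸ N) = QuotientGroup.mk ⟨y, hy⟩ := h3
  have h5 := QuotientGroup.eq.1 h4.symm
  exact h5

variable {Ω : Type*} [Group Ω] {S : Subgroup Ω}

/-- An automorphism in `O_p(Aut_F(E))`, `E` essential, induced by `g ∈ N_S(E)` forces `g ∈ E`. -/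
theorem mem_of_mem_pCore [Finite S] {p : ℕ} [Fact p.Prime] (hS : IsPGroup p S)
    (F : FusionSystem S) (hF : F.IsSaturated p) {E : Subgroup Ω} (hE : F.IsEssential p E)
    {g : Ω} (hgS : g ∈ S) (hgN : g ∈ Subgroup.normalizer (E : Set Ω))
    (h : conjAut E g hgN ∈ (Cfsg.pCore p (F.autGroup E)).map (F.autGroup E).subtype) : g ∈ E := by
  by_contra hgE
  have hr := Cfsg.Agent.S5080.result p hS F hF E hE
  rw [hr.2] at h
  exact conjAut_not_mem_inn (hE.1.2 E (isConj_refl F hE.1.1)) hgS hE.1.1 hgN hgE h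

/-- F1 -/
theorem mem_of_stab [Finite S] {p : ℕ} [Fact p.Prime] (hS : IsPGroup p S)
    (F : FusionSystem S) (hF : F.IsSaturated p) {E : Subgroup Ω} (hE : F.IsEssential p E)
    (n : ℕ) (X : ℕ → Subgroup ↥E) (h0 : X 0 = ⊥)
    (hinv : ∀ i, ∀ α ∈ F.autGroup E, ∀ x ∈ X i, α x ∈ X i)
    (hfaith : ∀ a ∈ F.autGroup E, (orderOf a).Coprime p → (∀ x ∈ X n, a x = x) → a = 1)
    {g : Ω} (hgS : g ∈ S) (hgN : g ∈ Subgroup.normalizer (E : Set Ω))
    (hstab : ∀ i < n, ∀ x ∈ X (i + 1), x⁻¹ * conjAut E g hgN x ∈ X i) : g ∈ E := by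
  have : Finite E := finite_of_le hE.1.1
  have hEp : IsPGroup p E := hS.to_le hE.1.1
  refine mem_of_mem_pCore hS F hF hE hgS hgN ?_
  exact mem_pCore_of_stab_faithful hEp _ n X h0 hinv hfaith _
    (autInducedBy_le_autGroup F hE.1.1 (conjAut_mem_autInducedBy hgN hgS)) hstab

theorem exists_conjAut_pow_eq_one {p : ℕ} (hS : IsPGroup p S) {E : Subgroup Ω} {g : Ω} (hgS : g ∈ S)
    (hgN : g ∈ Subgroup.normalizer (E : Set Ω)) : ∃ k : ℕ, conjAut E g hgN ^ (p ^ k) = 1 := by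
  obtain ⟨k, hk⟩ := isPGroup_autInducedBy hS E ⟨_, conjAut_mem_autInducedBy hgN hgS⟩
  exact ⟨k, by simpa using congrArg Subtype.val hk⟩

/-- F1': an essential subgroup has no `Aut_F(E)`-invariant chain with steps of index `p` on whose top term
the elements of order prime to `p` of `Aut_F(E)` act faithfully. -/
theorem no_prime_chain [Finite S] {p : ℕ} [Fact p.Prime] (hS : IsPGroup p S)
    (F : FusionSystem S) (hF : F.IsSaturated p) {E : Subgroup Ω} (hE : F.IsEssential p E)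
    (n : ℕ) (X : ℕ → Subgroup ↥E) (h0 : X 0 = ⊥)
    (hinv : ∀ i, ∀ α ∈ F.autGroup E, ∀ x ∈ X i, α x ∈ X i)
    (hfaith : ∀ a ∈ F.autGroup E, (orderOf a).Coprime p → (∀ x ∈ X n, a x = x) → a = 1)
    (hstep : ∀ i < n, X i ≤ X (i + 1) ∧ Nat.card (X (i + 1)) = p * Nat.card (X i)) : False := by
  have : Finite E := finite_of_le hE.1.1
  have hEp : IsPGroup p E := hS.to_le hE.1.1
  obtain ⟨g, hgS, hgN, hgE⟩ := exists_normalizer_growth hS (Oliver.essential_lt hS hF hE)
  have hA : conjAut E g hgN ∈ F.autGroup E :=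
    autInducedBy_le_autGroup F hE.1.1 (conjAut_mem_autInducedBy hgN hgS)
  obtain ⟨k, hk⟩ := exists_conjAut_pow_eq_one hS hgS hgN
  refine hgE (mem_of_stab hS F hF hE n X h0 hinv hfaith hgS hgN (fun i hi => ?_))
  exact stab_of_card_eq hEp _ k hk (X i) (X (i + 1)) (hstep i hi).1 (hstep i hi).2
    (hinv i _ hA) (hinv (i + 1) _ hA)

end Cfsg.Agent.Lib.Helper86.Rank2
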