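import Cfsg.Agent.Lib.Helper26.Rank2G2
import Cfsg.Agent.Lib.Helper89.OddStab

set_option autoImplicit false

namespace Cfsg.Agent.Lib.Helper86.Rank2

open Cfsg.Agent.Lib
open Cfsg.Agent.Lib.Helper26.Rank2G2 (Z0 mem_Z0 card_Z0 eq_of_lt_of_le_of_card mem_iff_of_finite)

/-- G9 when `T` is normal in the ambient group. -/
theorem pearl_weights_normal {G : Type*} [Group G] [Finite G] {p : ℕ} [hpf : Fact p.Prime]
    (hp : p ≠ 2) (hG : IsPGroup p G) (hrk : Cfsg.PRankLE p 2 G)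
    (E T : Subgroup G) (hTn : T.Normal) (hEc : Nat.card E = p ^ 2) (hTc : Nat.card T = p ^ 3)
    (hTe : ∀ x ∈ T, x ^ p = 1) (hET : E ≤ T)
    (hN : ∀ g : G, (∀ x ∈ E, g * x * g⁻¹ ∈ E) → g ∈ T) (hTtop : T ≠ ⊤)
    (e₁ e₂ c : G) (he₁ : e₁ ∈ E) (he₂ : e₂ ∈ E) (he₁1 : e₁ ≠ 1) (hc : c ∈ T)
    (hc1 : c * e₁ * c⁻¹ = e₁) (hc2 : c * e₂ * c⁻¹ ≠ e₂)
    (β : MulAut G) (hβT : ∀ x ∈ T, β x ∈ T) (m n : ℕ) (h1 : β e₁ = e₁ ^ m) (h2 : β e₂ = e₂ ^ n) :
    n ^ 2 ≡ 1 [MOD p] ∨ m ≡ n ^ 2 [MOD p] := by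
  have hpp : p.Prime := hpf.out
  have hEab : ∀ a ∈ E, ∀ b ∈ E, a * b = b * a := by
    intro a ha b hb
    have := (IsPGroup.isMulCommutative_of_card_eq_prime_sq hEc).is_comm.comm ⟨a, ha⟩ ⟨b, hb⟩
    exact congrArg Subtype.val this
  have hcE : c ∉ E := by
    intro h
    apply hc2
    rw [hEab c h e₂ he₂, mul_inv_cancel_right]
  -- `e₁` is central in `T`
  have hK : T ⊓ Subgroup.centralizer {e₁} = T := by
    refine eq_of_lt_of_le_of_card hG (K := E) ?_ inf_le_left (by rw [hTc, hEc]; ring)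
    refine lt_of_le_of_ne (le_inf hET ?_) ?_
    · intro x hx
      rw [Subgroup.mem_centralizer_singleton_iff]
      exact hEab x hx e₁ he₁
    · intro h
      apply hcE
      rw [h]
      refine Subgroup.mem_inf.2 ⟨hc, ?_⟩
      rw [Subgroup.mem_centralizer_singleton_iff]
      rw [mul_inv_eq_iff_eq_mul] at hc1
      exact hc1
  have he₁c : ∀ x ∈ T, x * e₁ = e₁ * x := by
    intro x hx
    have : x ∈ T ⊓ Subgroup.centralizer {e₁} := hK.symm ▸ hx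
    exact Subgroup.mem_centralizer_singleton_iff.1 this.2
  have he₁Z : e₁ ∈ Z0 T := mem_Z0.2 ⟨hET he₁, fun x hx => (he₁c x hx).symm⟩
  have hZc : Nat.card (Z0 T) = p := card_Z0 hG hrk T hTc hTe
  have hord : orderOf e₁ = p := orderOf_eq_prime (hTe e₁ (hET he₁)) he₁1
  have hZ : Subgroup.zpowers e₁ = Z0 T :=
    Subgroup.eq_of_le_of_card_ge (Subgroup.zpowers_le.2 he₁Z) (by rw [hZc, Nat.card_zpowers, hord])
  have hZE : Z0 T ≤ E := hZ ▸ Subgroup.zpowers_le.2 he₁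
  have hω : ∀ z, CenD T z → β z = z ^ m := by
    intro z hz
    have : z ∈ Subgroup.zpowers e₁ := hZ.symm ▸ mem_Z0.2 hz
    obtain ⟨i, rfl⟩ := this
    show β (e₁ ^ i) = (e₁ ^ i) ^ m
    rw [map_zpow, h1, ← zpow_natCast, ← zpow_natCast, ← zpow_mul, ← zpow_mul, mul_comm]
  have he₂Z : e₂ ∉ Subgroup.zpowers e₁ := by
    rintro ⟨i, hi⟩
    apply hc2
    rw [← hi]
    show c * e₁ ^ i * c⁻¹ = e₁ ^ i
    rw [← conj_zpow, hc1]
  have hgenE : ∀ K : Subgroup G, e₁ ∈ K → e₂ ∈ K → E ≤ K := by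
    intro K hK1 hK2
    have : K ⊓ E = E := by
      refine eq_of_lt_of_le_of_card hG (K := Subgroup.zpowers e₁) ?_ inf_le_right
        (by rw [hEc, Nat.card_zpowers, hord]; ring)
      refine lt_of_le_of_ne (Subgroup.zpowers_le.2 ⟨hK1, he₁⟩) ?_
      intro h
      exact he₂Z (h ▸ ⟨hK2, he₂⟩)
    exact this ▸ inf_le_left
  obtain ⟨g₀, hg₀⟩ : ∃ g₀ : G, ¬ CenD T (g₀ * e₂ * g₀⁻¹ * e₂⁻¹) := by
    by_contra hcon
    push Not at hcon
    apply hTtop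
    rw [eq_top_iff]
    intro g _
    apply hN
    have hle := hgenE (E.comap (MulAut.conj g).toMonoidHom) ?_ ?_
    · intro x hx
      exact hle hx
    · show g * e₁ * g⁻¹ ∈ E
      exact hZE ((inferInstance : (Z0 T).Normal).conj_mem e₁ he₁Z g)
    · show g * e₂ * g⁻¹ ∈ E
      have h3 := E.mul_mem (hZE (mem_Z0.2 (hcon g))) he₂
      rwa [inv_mul_cancel_right] at h3
  refine Helper26.Rank2G2.weight_lemma hp hG hrk T hTn hTc hTe β hβT m n hω e₂ 1 g₀ (hET he₂) hg₀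
    T.one_mem (fun g => ?_) (by rw [h2, mul_one])
  have : g * 1 * g⁻¹ * 1⁻¹ = 1 := by group
  rw [this]
  exact ⟨T.one_mem, fun x _ => by rw [one_mul, mul_one]⟩

/-- G9 -/
theorem pearl_weights {P : Type*} [Group P] [Finite P] {p : ℕ} [Fact p.Prime] (hp : p ≠ 2)
    (hP : IsPGroup p P) (hrk : Cfsg.PRankLE p 2 P)
    (E T : Subgroup P) (hEc : Nat.card E = p ^ 2) (hTc : Nat.card T = p ^ 3)
    (hTe : ∀ x ∈ T, x ^ p = 1) (hET : E ≤ T)
    (hN : ∀ g : P, (∀ x ∈ E, g * x * g⁻¹ ∈ E) → g ∈ T) (hTtop : T ≠ ⊤)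
    (e₁ e₂ c : P) (he₁ : e₁ ∈ E) (he₂ : e₂ ∈ E) (he₁1 : e₁ ≠ 1) (hc : c ∈ T)
    (hc1 : c * e₁ * c⁻¹ = e₁) (hc2 : c * e₂ * c⁻¹ ≠ e₂)
    (β : MulAut P) (hβT : ∀ x ∈ T, β x ∈ T) (m n : ℕ) (h1 : β e₁ = e₁ ^ m) (h2 : β e₂ = e₂ ^ n) :
    n ^ 2 ≡ 1 [MOD p] ∨ m ≡ n ^ 2 [MOD p] := by
  set U : Subgroup P := Subgroup.normalizer (T : Set P) with hU
  have hTU : T ≤ U := Subgroup.le_normalizer
  have hnil : Group.IsNilpotent P := hP.isNilpotent
  have hlt : T < U := Group.normalizerCondition_of_isNilpotent T (lt_top_iff_ne_top.2 hTtop)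
  have hβiff := mem_iff_of_finite β T hβT
  have hβU : ∀ x ∈ U, β x ∈ U := by
    intro u hu
    refine Subgroup.mem_normalizer_fintype (fun x hx => ?_)
    have hy : β.symm x ∈ T := by
      rw [← hβiff]; simpa using hx
    have h3 : u * β.symm x * u⁻¹ ∈ T := (Subgroup.mem_normalizer_iff.1 hu _).1 hy
    have h4 := hβT _ h3
    simpa using h4
  have hrkU : Cfsg.PRankLE p 2 ↥U := by
    intro A hA hAe
    have hinj : Function.Injective U.subtype := U.subtype_injective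
    have h3 := hrk (A.map U.subtype) ⟨⟨?_⟩⟩ ?_
    · rwa [Subgroup.card_map_of_injective hinj] at h3
    · rintro ⟨_, x, hx, rfl⟩ ⟨_, y, hy, rfl⟩
      apply Subtype.ext
      have := congrArg Subtype.val (hA.is_comm.comm ⟨x, hx⟩ ⟨y, hy⟩)
      exact congrArg (Subtype.val : ↥U → P) this
    · rintro _ ⟨x, hx, rfl⟩
      exact congrArg Subtype.val (hAe x hx)
  refine pearl_weights_normal hp (hP.to_subgroup U) hrkU (E.subgroupOf U) (T.subgroupOf U)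
    (Subgroup.normal_subgroupOf_of_le_normalizer le_rfl)
    (by rw [← hEc]; exact Nat.card_congr (Subgroup.subgroupOfEquivOfLe (hET.trans hTU)).toEquiv)
    (by rw [← hTc]; exact Nat.card_congr (Subgroup.subgroupOfEquivOfLe hTU).toEquiv)
    (fun x hx => Subtype.ext (hTe x.1 hx)) (fun x hx => hET hx)
    (fun g hg => hN g.1 (fun x hx => hg ⟨x, hTU (hET hx)⟩ hx))
    (fun h => absurd (Subgroup.subgroupOf_eq_top.1 h) (not_le_of_gt hlt))
    ⟨e₁, hTU (hET he₁)⟩ ⟨e₂, hTU (hET he₂)⟩ ⟨c, hTU hc⟩ he₁ he₂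
    (fun h => he₁1 (congrArg Subtype.val h)) hc (Subtype.ext hc1)
    (fun h => hc2 (congrArg Subtype.val h)) (Helper89.restrictAut β U hβU)
    (fun x hx => hβT x.1 hx) m n (Subtype.ext h1) (Subtype.ext h2)

end Cfsg.Agent.Lib.Helper86.Rank2
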