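import Cfsg.Agent.Lib.Helper86.Rank2Pearl
import Cfsg.Agent.Lib.Helper64.Rank2FAlpha

set_option autoImplicit false

namespace Cfsg.Agent.Lib.Helper86.Rank2

open Cfsg Cfsg.FusionSystem Cfsg.Agent.Lib

variable {Ω : Type*} [Group Ω] {S : Subgroup Ω}

/-- The assembly of the ladder, with rung F-beta as a hypothesis. -/
theorem isNormal_of_rank_two [Finite S] (p : ℕ) [Fact p.Prime] (hS : IsPGroup p S)
    (F : Cfsg.FusionSystem S) (hF : F.IsSaturated p)
    (hp : 5 ≤ p)
    (hrank3 : ∀ E : Subgroup Ω, E ≤ S → Cfsg.IsElementaryAbelian p E → Nat.card E ≤ p ^ 2)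
    (hnotE : ¬ (Nat.card S = p ^ 3 ∧ Monoid.exponent ↥S = p))
    (hbeta : ∀ E : Subgroup Ω, F.IsEssential p E → ∀ D : Subgroup ↥E, D.Characteristic →
      Nat.card D = p ^ 3 → (∀ x ∈ D, x ^ p = 1) →
      (∀ a : MulAut ↥E, (orderOf a).Coprime p → (∀ x ∈ D, a x = x) → a = 1) → False) :
    F.IsNormal S := by
  have hp2 : p ≠ 2 := by omega
  have key : ∀ E : Subgroup Ω, F.IsEssential p E → Nat.card E = p ^ 2 := by
    intro E hE
    obtain ⟨D, hDch, hDe, hDf, h | h⟩ := dichotomy hS F hF hp2 hrank3 hE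
    · exact Helper64.Rank2FAlpha.card_of_central hS F hF hp hE D hDch h.1 h.2.1 h.2.2
    · exact (hbeta E hE D hDch h hDe hDf).elim
  refine isNormal_of_invariant hS F hF (fun P hP => ?_)
  rcases hP with rfl | hP
  · refine ⟨le_rfl, fun α _ => ?_⟩
    ext x
    simp only [Subgroup.mem_map, Subgroup.mem_subgroupOf]
    constructor
    · rintro ⟨y, _, rfl⟩; exact (α y).2
    · intro _; exact ⟨α.symm x, (α.symm x).2, by simp⟩
  · exact (hnotE (card_of_pearl hS F hF hp hrank3 hP (key P hP) key)).elim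

end Cfsg.Agent.Lib.Helper86.Rank2
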