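import Cfsg.Agent.Lib.Helper86.Rank2Ext
import Cfsg.Agent.Lib.Helper86.Rank2Alperin
import Cfsg.Agent.Lib.Helper86.Rank2Dich
import Cfsg.Agent.Lib.Helper64.Rank2G1
import Cfsg.Agent.Lib.Helper16.Rank2G3
import Cfsg.Agent.S5185
import Cfsg.Agent.Lib.Helper86.Rank2G7
import Cfsg.Agent.Lib.Helper86.Rank2G9

set_option autoImplicit false

namespace Cfsg.Agent.Lib.Helper86.Rank2

open Cfsg Cfsg.FusionSystem Cfsg.Agent.Lib
open Cfsg.Agent.Lib.Helper87 (Mor Iso autFun)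

theorem exists_weights {p : ℕ} (hpp : p.Prime) (hp : 5 ≤ p) :
    ∃ m n : ℕ, m * n ≡ 1 [MOD p] ∧ ¬ m ≡ 1 [MOD p] ∧ ¬ n ^ 2 ≡ 1 [MOD p] ∧
      ¬ m ≡ n ^ 2 [MOD p] := by
  by_cases h7 : p = 7
  · subst h7
    exact ⟨5, 3, by decide, by decide, by decide, by decide⟩
  · obtain ⟨k, hk⟩ := hpp.odd_of_ne_two (by omega)
    refine ⟨k + 1, 2, ?_, ?_, ?_, ?_⟩
    · have : (k + 1) * 2 = 1 + p := by omega
      rw [this]
      simp [Nat.ModEq]
    · unfold Nat.ModEq
      rw [Nat.mod_eq_of_lt (by omega), Nat.mod_eq_of_lt (by omega)]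
      omega
    · unfold Nat.ModEq
      rw [Nat.mod_eq_of_lt (by omega), Nat.mod_eq_of_lt (by omega)]
      omega
    · unfold Nat.ModEq
      rw [Nat.mod_eq_of_lt (by omega), Nat.mod_eq_of_lt (by omega)]
      omega

theorem exponent_eq_of_card {G : Type*} [Group G] {p : ℕ} (hpp : p.Prime)
    (hc : Nat.card G = p ^ 3) (he : ∀ x : G, x ^ p = 1) : Monoid.exponent G = p := by
  have h1 : Monoid.exponent G ∣ p := Monoid.exponent_dvd_of_forall_pow_eq_one he
  rcases (Nat.dvd_prime hpp).1 h1 with h | h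
  · exfalso
    have hs : Subsingleton G := Monoid.exp_eq_one_iff.1 h
    have : Nat.card G = 1 := Nat.card_eq_one_iff_unique.2 ⟨hs, ⟨1⟩⟩
    rw [hc] at this
    have := hpp.one_lt
    have h3 : 1 < p ^ 3 := Nat.one_lt_pow (by norm_num) this
    omega
  · exact h

variable {Ω : Type*} [Group Ω] {S : Subgroup Ω}

/-- F-A -/
theorem card_of_pearl [Finite S] {p : ℕ} [Fact p.Prime] (hS : IsPGroup p S)
    (F : FusionSystem S) (hF : F.IsSaturated p) (hp : 5 ≤ p)
    (hrank : ∀ B : Subgroup Ω, B ≤ S → Cfsg.IsElementaryAbelian p B → Nat.card B ≤ p ^ 2)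
    {E : Subgroup Ω} (hE : F.IsEssential p E) (hEc : Nat.card E = p ^ 2)
    (hall : ∀ E' : Subgroup Ω, F.IsEssential p E' → Nat.card E' = p ^ 2) :
    Nat.card S = p ^ 3 ∧ Monoid.exponent ↥S = p := by
  have hpp : p.Prime := Fact.out
  have hp2 : p ≠ 2 := by omega
  have hES : E ≤ S := hE.1.1
  have : Finite E := finite_of_le hES
  have hEp : IsPGroup p E := hS.to_le hES
  obtain ⟨hEcomm, hEexp⟩ := (Cfsg.Agent.S5185.result p hS F hF E hE hEc).1
  have hexpE : ∀ x : ↥E, x ^ p = 1 := fun x => Subtype.ext (hEexp x.1 x.2)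
  have hcommE : ∀ x ∈ E, ∀ y ∈ E, x * y = y * x := fun x hx y hy =>
    congrArg Subtype.val (hEcomm.is_comm.comm ⟨x, hx⟩ ⟨y, hy⟩)
  obtain ⟨c, hcS, hcN, hcE, hcp⟩ := exists_growth_pow hS (Oliver.essential_lt hS hF hE)
  set σ := conjAut E c hcN with hσdef
  have hσS : σ ∈ autInducedBy S E := conjAut_mem_autInducedBy hcN hcS
  have hσA : σ ∈ F.autGroup E := autInducedBy_le_autGroup F hES hσS
  have hσ1 : σ ≠ 1 := by
    intro h
    refine hcE (mem_of_centralizes hE.1 hcS (fun x hx => ?_))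
    have := congrArg (fun a : MulAut E => ((a ⟨x, hx⟩ : E) : Ω)) h
    exact this
  have hσp : σ ^ p = 1 := by
    rw [hσdef, conjAut_pow]
    ext x
    rw [conjAut_apply, hcommE _ hcp _ x.2, mul_inv_cancel_right]
    rfl
  have hirr : ∀ L : Subgroup ↥E, Nat.card L = p → ∃ β ∈ F.autGroup E, ∃ x ∈ L, β x ∉ L := by
    intro L hL
    by_contra hcon
    push Not at hcon
    refine no_prime_chain hS F hF hE 2
      (fun i => if i = 0 then ⊥ else if i = 1 then L else ⊤) (by simp) ?_ ?_ ?_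
    · intro i α hα
      by_cases hi : i = 0
      · simp only [hi, if_true]
        intro x hx
        rw [Subgroup.mem_bot] at hx ⊢
        rw [hx, map_one]
      · by_cases hi1 : i = 1
        · simp only [hi1, one_ne_zero, if_true, if_false]; exact hcon α hα
        · simp only [hi, hi1, if_false]; exact fun x _ => Subgroup.mem_top _
    · intro a _ _ h
      ext x
      have := h x (by simp)
      rw [this]; rfl
    · intro i hi
      have : i = 0 ∨ i = 1 := by omega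
      rcases this with rfl | rfl
      · simp [hL]
      · simp [hL, hEc, pow_two]
  obtain ⟨e₁, e₂, he₁1, hσe₁, hσe₂, hdiag⟩ :=
    Helper64.Rank2G1.exists_diag hEc hexpE (F.autGroup E) σ hσA hσ1 hσp hirr
  obtain ⟨m, n, hmn, hm1, hn2, hmn2⟩ := exists_weights hpp hp
  obtain ⟨δ, hδA, hδ1, hδ2, hδσ⟩ := hdiag m n hmn
  have hQ : ∀ τ ∈ autInducedBy S E, τ ∈ Subgroup.zpowers σ :=
    mem_zpowers_of_isPGroup hEc hexpE _ (isPGroup_autInducedBy hS E) σ hσS hσ1
  have hnorm : ∀ t ∈ autInducedBy S E, δ * t * δ⁻¹ ∈ autInducedBy S E := by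
    intro t ht
    obtain ⟨i, rfl⟩ := hQ t ht
    show δ * σ ^ i * δ⁻¹ ∈ _
    rw [← conj_zpow]
    exact Subgroup.zpow_mem _ ((Subgroup.zpowers_le.2 hσS) hδσ) i
  set T := normalizerIn S E with hT
  obtain ⟨δ₁, hδ₁A, hδ₁⟩ : ∃ δ₁ ∈ F.autGroup T, ∀ x ∈ E, autFun δ₁ x = autFun δ x :=
    exists_extension_normalizer hS F hF hE.2.1 hδA hnorm
  have hET : E ≤ T := Helper87.le_normalizerIn hES
  have hTS : T ≤ S := Helper87.normalizerIn_le S E
  have hcT : c ∈ T := ⟨hcS, hcN⟩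
  have : Finite T := finite_of_le hTS
  have hgen : ∀ g ∈ T, ∃ i : ℤ, g * c ^ i ∈ E := by
    intro g hg
    obtain ⟨j, hj⟩ := hQ _ (conjAut_mem_autInducedBy hg.2 hg.1)
    refine ⟨-j, mem_of_centralizes hE.1 (S.mul_mem hg.1 (S.zpow_mem hcS _)) (fun x hx => ?_)⟩
    have h1 : ((σ ^ (-j)) ⟨x, hx⟩ : Ω) = c ^ (-j) * x * (c ^ (-j))⁻¹ := by
      rw [hσdef, conjAut_zpow]; rfl
    have h2 : conjAut E g hg.2 ((σ ^ (-j)) ⟨x, hx⟩) = ⟨x, hx⟩ := by
      rw [← hj]
      show (σ ^ j * σ ^ (-j)) ⟨x, hx⟩ = _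
      rw [← zpow_add]; simp
    have h3 : g * (c ^ (-j) * x * (c ^ (-j))⁻¹) * g⁻¹ = x := by
      have h4 := congrArg Subtype.val h2
      rw [conjAut_apply, h1] at h4
      exact h4
    calc g * c ^ (-j) * x * (g * c ^ (-j))⁻¹ = g * (c ^ (-j) * x * (c ^ (-j))⁻¹) * g⁻¹ := by group
      _ = x := h3
  -- the order of `T`
  have hE'n : (E.subgroupOf T).Normal := Subgroup.normal_subgroupOf_of_le_normalizer inf_le_right
  have hE'c : Nat.card (E.subgroupOf T) = p ^ 2 := by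
    rw [← hEc]; exact Nat.card_congr (Subgroup.subgroupOfEquivOfLe hET).toEquiv
  have hTc : Nat.card T = p ^ 3 := by
    have := card_eq_of_cyclic_ext (p := p) (E.subgroupOf T) ⟨c, hcT⟩ hcE hcp (fun g => by
      obtain ⟨i, hi⟩ := hgen g.1 g.2
      exact ⟨i, by simpa [Subgroup.mem_subgroupOf] using hi⟩)
    rw [this, hE'c]; ring
  have hδ₁E : ∀ x : ↥E, ((δ₁ ⟨x.1, hET x.2⟩ : T) : Ω) = ((δ x : E) : Ω) := by
    intro x
    have := hδ₁ x.1 x.2
    rw [Helper87.autFun_apply _ (hET x.2), Helper87.autFun_coe] at this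
    exact this
  have hce₁ : c * e₁.1 * c⁻¹ = e₁.1 := congrArg Subtype.val hσe₁
  have hce₂ : c * e₂.1 * c⁻¹ ≠ e₂.1 := fun h => hσe₂ (Subtype.ext h)
  have he₁1' : e₁.1 ≠ 1 := fun h => he₁1 (Subtype.ext h)
  have hTexp : ∀ x : ↥T, x ^ p = 1 := by
    refine Helper16.Rank2.exponent_of_weights hp2 hTc (E.subgroupOf T) hE'c
      (fun x hx => Subtype.ext (hEexp x.1 hx)) ⟨e₁.1, hET e₁.2⟩ ⟨e₂.1, hET e₂.2⟩ ⟨c, hcT⟩
      e₁.2 e₂.2 (fun h => he₁1' (congrArg Subtype.val h)) hcE (Subtype.ext hce₁)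
      (fun h => hce₂ (congrArg Subtype.val h)) δ₁ m n hmn hm1 ?_ ?_
    · apply Subtype.ext
      rw [hδ₁E, hδ1]; rfl
    · apply Subtype.ext
      rw [hδ₁E, hδ2]; rfl
  by_cases hTeq : T = S
  · have key : ∀ R : Subgroup Ω, R = S → Nat.card R = p ^ 3 → (∀ x : R, x ^ p = 1) →
        Nat.card S = p ^ 3 ∧ Monoid.exponent ↥S = p := by
      rintro R rfl h1 h2
      exact ⟨h1, exponent_eq_of_card hpp h1 h2⟩
    exact key T hTeq hTc hTexp
  · exfalso
    obtain ⟨β, hβA, hβ⟩ := exists_extension_of_card hS F hF (p ^ 3)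
      (fun E' hE' => by
        rw [hall E' hE']
        exact Nat.pow_lt_pow_right hpp.one_lt (by norm_num))
      ((Helper87.mem_autGroup_iff F hTS δ₁).1 hδ₁A) hTc.ge
    have hβT : ∀ x : ↥S, ∀ hx : x.1 ∈ T, ((β x : S) : Ω) = ((δ₁ ⟨x.1, hx⟩ : T) : Ω) := by
      intro x hx
      have := hβ x.1 hx
      rw [Helper87.autFun_coe, Helper87.autFun_apply _ hx] at this
      exact this
    have hres := pearl_weights hp2 hS
      (prankLE_of_injective hrank S.subtype S.subtype_injective (fun x => x.2))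
      (E.subgroupOf S) (T.subgroupOf S)
      (by rw [← hEc]; exact Nat.card_congr (Subgroup.subgroupOfEquivOfLe hES).toEquiv)
      (by rw [← hTc]; exact Nat.card_congr (Subgroup.subgroupOfEquivOfLe hTS).toEquiv)
      (fun x hx => Subtype.ext
        (show (x.1 : Ω) ^ p = 1 from congrArg (Subtype.val : ↥T → Ω) (hTexp ⟨x.1, hx⟩)))
      (fun x hx => hET hx)
      (fun g hg => ⟨g.2, Subgroup.mem_normalizer_fintype (fun x hx => hg ⟨x, hES hx⟩ hx)⟩)
      (fun h => hTeq (le_antisymm hTS (Subgroup.subgroupOf_eq_top.1 h)))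
      ⟨e₁.1, hES e₁.2⟩ ⟨e₂.1, hES e₂.2⟩ ⟨c, hcS⟩ e₁.2 e₂.2
      (fun h => he₁1' (congrArg Subtype.val h)) hcT (Subtype.ext hce₁)
      (fun h => hce₂ (congrArg Subtype.val h)) β
      (fun x hx => by
        show ((β x : S) : Ω) ∈ T
        rw [hβT x hx]; exact (δ₁ _).2) m n
      (by
        apply Subtype.ext
        rw [hβT _ (hET e₁.2), hδ₁E, hδ1]; rfl)
      (by
        apply Subtype.ext
        rw [hβT _ (hET e₂.2), hδ₁E, hδ2]; rfl)
    rcases hres with h | h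
    · exact hn2 h
    · exact hmn2 h

end Cfsg.Agent.Lib.Helper86.Rank2
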