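import Cfsg.Agent.Lib.Helper86.OliverA
import Cfsg.Agent.Lib.Helper86.MaxClassAux

set_option autoImplicit false

namespace Cfsg.Agent.Lib.Helper86.MaxClass

open Cfsg Cfsg.FusionSystem Cfsg.Agent.Lib

variable {Ω : Type*} [Group Ω] {S : Subgroup Ω} [Finite S]

theorem fn_of_normal (F : FusionSystem S) {T : Subgroup Ω} (hTS : T ≤ S)
    (hTn : S ≤ Subgroup.normalizer (T : Set Ω)) : F.IsFullyNormalized T := by
  refine ⟨hTS, fun Q _ => ?_⟩
  have h1 : normalizerIn S T = S := inf_eq_left.2 hTn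
  rw [h1]
  exact Subgroup.card_le_of_le inf_le_left

theorem class_eq (p : ℕ) [Fact p.Prime] (n : ℕ) (hn : Nat.card S = p ^ n) (h2 : 2 ≤ n)
    (hmax : Subgroup.lowerCentralSeries S (n - 2) ≠ ⊥) : Group.nilpotencyClass ↥S = n - 1 := by
  have hnil : Group.IsNilpotent ↥S := (IsPGroup.of_card hn).isNilpotent
  refine le_antisymm (Helper3.nilpotencyClass_le_of_card n ↥S hn h2) ?_
  by_contra hlt
  push Not at hlt
  apply hmax
  have h1 : Group.nilpotencyClass ↥S ≤ n - 2 := by omega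
  have h3 := Subgroup.lowerCentralSeries_eq_bot_iff_nilpotencyClass_le.2 h1
  rw [← Subgroup.top_subtype_lowerCentralSeries, h3, Subgroup.map_bot]

theorem s5270' (p : ℕ) [Fact p.Prime] (hS : IsPGroup p ↥S) (n : ℕ) (hn : Nat.card S = p ^ n)
    (h4 : 4 ≤ n) (hmax : Subgroup.lowerCentralSeries S (n - 2) ≠ ⊥) (F : Cfsg.FusionSystem S)
    (hF : F.IsSaturated p) (Z2 Zc : Subgroup Ω)
    (hZ2 : Z2 = (Subgroup.upperCentralSeries ↥S 2).map S.subtype)
    (hZc : Zc = (Subgroup.center ↥S).map S.subtype)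
    (φ : ↥Z2 →* Ω) (hφ : φ ∈ F.Hom Z2) (hφZ : φ.range = Z2)
    (hmove : ∃ (z : Ω) (hz : z ∈ Z2), z ∈ Zc ∧ φ ⟨z, hz⟩ ∉ Zc) :
    F.IsEssential p (S ⊓ Subgroup.centralizer (Z2 : Set Ω)) := by
  have hc := class_eq p n hn (by omega) hmax
  set C : Subgroup Ω := S ⊓ Subgroup.centralizer (Z2 : Set Ω) with hC
  have hZ2S : Z2 ≤ S := by
    rw [hZ2]
    rintro _ ⟨w, -, rfl⟩
    exact w.2
  have hmemZ2 : ∀ w : Ω, w ∈ Z2 ↔ ∃ w' ∈ Subgroup.upperCentralSeries ↥S 2, ((w' : S) : Ω) = w := by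
    intro w
    rw [hZ2]
    rfl
  have hmemC : ∀ s : S, (s : Ω) ∈ C ↔
      s ∈ Subgroup.centralizer (Subgroup.upperCentralSeries ↥S 2 : Set ↥S) := by
    intro s
    rw [hC, Subgroup.mem_inf, Subgroup.mem_centralizer_iff, Subgroup.mem_centralizer_iff]
    constructor
    · rintro ⟨-, h⟩ w hw
      exact Subtype.ext (h w ((hmemZ2 _).2 ⟨w, hw, rfl⟩))
    · intro h
      refine ⟨s.2, fun w hw => ?_⟩
      obtain ⟨w, hw', rfl⟩ := (hmemZ2 _).1 hw
      exact congrArg Subtype.val (h w hw')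
  have hZ2C : Z2 ≤ C := by
    intro w hw
    obtain ⟨w, hw', rfl⟩ := (hmemZ2 _).1 hw
    exact (hmemC w).2 (le_centralizer hn h4 hc hw')
  have hZ2n : S ≤ Subgroup.normalizer (Z2 : Set Ω) := by
    intro s hs
    have : Finite Z2 := finite_of_le hZ2S
    refine mem_normalizer_of_forall_conj_mem (fun w hw => ?_)
    obtain ⟨w, hw', rfl⟩ := (hmemZ2 _).1 hw
    have hnorm : (Subgroup.upperCentralSeries ↥S 2).Normal := inferInstance
    refine (hmemZ2 _).2 ⟨(⟨s, hs⟩ : S) * w * (⟨s, hs⟩ : S)⁻¹, hnorm.conj_mem w hw' ⟨s, hs⟩, ?_⟩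
    simp
  have hCS : C ≤ S := inf_le_left
  have hCn : S ≤ Subgroup.normalizer (C : Set Ω) := by
    intro s hs
    have : Finite C := finite_of_le hCS
    refine mem_normalizer_of_forall_conj_mem (fun y hy => ?_)
    refine Subgroup.mem_inf.2 ⟨S.mul_mem (S.mul_mem hs hy.1) (S.inv_mem hs), ?_⟩
    rw [Subgroup.mem_centralizer_iff]
    intro w hw
    have hw' : s⁻¹ * w * s ∈ Z2 := by
      have := (Subgroup.mem_normalizer_iff.1 (hZ2n (S.inv_mem hs)) w).1 hw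
      rwa [inv_inv] at this
    have h1 := (Subgroup.mem_centralizer_iff.1 hy.2) _ hw'
    calc w * (s * y * s⁻¹) = s * ((s⁻¹ * w * s) * y) * s⁻¹ := by group
      _ = s * (y * (s⁻¹ * w * s)) * s⁻¹ := by rw [h1]
      _ = s * y * s⁻¹ * w := by group
  have hClt : C < S := by
    refine lt_of_le_of_ne hCS (fun heq => ?_)
    apply centralizer_ne_top hn h4 hc
    rw [eq_top_iff]
    intro s _
    rw [← hmemC, heq]
    exact s.2
  have hmax' : ∀ Q : Subgroup Ω, Q ≤ S → C < Q → Q = S := by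
    intro Q hQS hCQ
    obtain ⟨g, hgQ, hgC⟩ := SetLike.exists_of_lt hCQ
    have h1 := eq_top_of_centralizer_lt hn h4 hc (Q.subgroupOf S)
      (fun s hs => hCQ.le ((hmemC s).2 hs)) (g := ⟨g, hQS hgQ⟩) hgQ
      (fun h => hgC ((hmemC ⟨g, hQS hgQ⟩).2 h))
    exact le_antisymm hQS (Subgroup.subgroupOf_eq_top.1 h1)
  have hmemZ : ∀ z : Ω, z ∈ Zc ↔ z ∈ S ∧ ∀ s ∈ S, s * z = z * s := by
    intro z
    rw [hZc]
    constructor
    · rintro ⟨w, hw, rfl⟩
      exact ⟨w.2, fun s hs => congrArg Subtype.val (Subgroup.mem_center_iff.1 hw ⟨s, hs⟩)⟩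
    · rintro ⟨hz, h⟩
      exact ⟨⟨z, hz⟩, Subgroup.mem_center_iff.2 (fun s => Subtype.ext (h s s.2)), rfl⟩
  have hfnC := fn_of_normal F hCS hCn
  have hfnZ := fn_of_normal F hZ2S hZ2n
  have hrecZ := sat_receptive_of_fullyNormalized hS F hF hfnZ
  -- the extension of `φ`
  have : Finite Z2 := finite_of_le hZ2S
  have : Finite C := finite_of_le hCS
  have hmor : Helper87.Mor F Z2 (Helper87.ext φ) := Helper87.Mor.of_hom hφ
  have hiso : Helper87.Iso F Z2 Z2 (Helper87.ext φ) := by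
    refine hmor.iso_self (fun x hx => ?_)
    rw [Helper87.ext_apply φ hx]
    have : φ ⟨x, hx⟩ ∈ φ.range := ⟨_, rfl⟩
    rwa [hφZ] at this
  obtain ⟨f', hf', hag, hfc⟩ := Helper87.receptive_extend_centralizer hrecZ hiso
  have hsup : Z2 ⊔ centralizerIn S Z2 = C := sup_eq_right.2 hZ2C
  rw [hsup] at hf'
  have hisoC : Helper87.Iso F C C f' := hf'.iso_self (fun x hx => hfc x hx)
  obtain ⟨a, ha, hax⟩ := hisoC.exists_aut
  rcases extendable_dichotomy hS F hF hClt hfnC with ⟨-, hcl⟩ | ⟨hess, -⟩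
  · exfalso
    -- the automorphisms preserving the centre
    let K : Subgroup (MulAut C) :=
      { carrier := {γ | ∀ c : C, (c : Ω) ∈ Zc ↔ ((γ c : C) : Ω) ∈ Zc}
        mul_mem' := by
          intro γ δ hγ hδ c
          rw [MulAut.mul_apply, ← hγ, ← hδ]
        one_mem' := fun c => Iff.rfl
        inv_mem' := by
          intro γ hγ c
          rw [hγ (γ⁻¹ c), MulAut.apply_inv_self] }
    have hK : Subgroup.closure (extGens F C) ≤ K := by
      rw [Subgroup.closure_le]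
      rintro γ ⟨Q, hCQ, ψ, hψ, hψγ⟩ c
      have hQS : Q ≤ S := (F.le_of_mem hψ).1
      have hQ : Q = S := hmax' Q hQS hCQ
      subst hQ
      have hm : Helper87.Mor F Q (Helper87.ext ψ) := Helper87.Mor.of_hom hψ
      have hi : Helper87.Iso F Q Q (Helper87.ext ψ) := hm.iso_self (fun x hx => hm.mem hx)
      have hγc : ((γ c : C) : Ω) = Helper87.ext ψ c := by
        rw [← hψγ, Helper87.ext_apply ψ (hCQ.le c.2)]
        rfl
      rw [hγc, hmemZ, hmemZ]
      constructor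
      · rintro ⟨hcS, hcc⟩
        refine ⟨hm.mem hcS, fun s hs => ?_⟩
        obtain ⟨t, ht, rfl⟩ := (hi.2 s).1 hs
        rw [← hm.map_mul ht hcS, ← hm.map_mul hcS ht, hcc t ht]
      · rintro ⟨-, hcc⟩
        refine ⟨hCQ.le c.2, fun s hs => ?_⟩
        apply hm.inj (Q.mul_mem hs (hCQ.le c.2)) (Q.mul_mem (hCQ.le c.2) hs)
        rw [hm.map_mul hs (hCQ.le c.2), hm.map_mul (hCQ.le c.2) hs]
        exact hcc _ (hm.mem hs)
    obtain ⟨z, hz, hzZ, hφz⟩ := hmove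
    have haK : a ∈ K := hK (hcl ▸ ha)
    apply hφz
    have h1 := (haK ⟨z, hZ2C hz⟩).1 hzZ
    rw [hax, hag z hz, Helper87.ext_apply φ hz] at h1
    exact h1
  · exact hess

theorem s5270 (p : ℕ) [Fact p.Prime] (hS : IsPGroup p ↥S) (n : ℕ) (hn : Nat.card S = p ^ n)
    (h4 : 4 ≤ n) (hmax : Subgroup.lowerCentralSeries S (n - 2) ≠ ⊥) (F : Cfsg.FusionSystem S)
    (hF : F.IsSaturated p)
    (φ : ↥((Subgroup.upperCentralSeries ↥S 2).map S.subtype) →* Ω)
    (hφ : φ ∈ F.Hom ((Subgroup.upperCentralSeries ↥S 2).map S.subtype))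
    (hφZ : φ.range = ((Subgroup.upperCentralSeries ↥S 2).map S.subtype))
    (hmove : ∃ (z : Ω) (hz : z ∈ ((Subgroup.upperCentralSeries ↥S 2).map S.subtype)),
      z ∈ ((Subgroup.center ↥S).map S.subtype) ∧ φ ⟨z, hz⟩ ∉ ((Subgroup.center ↥S).map S.subtype)) :
    F.IsEssential p
      (S ⊓ Subgroup.centralizer (((Subgroup.upperCentralSeries ↥S 2).map S.subtype) : Set Ω)) :=
  s5270' p hS n hn h4 hmax F hF _ _ rfl rfl φ hφ hφZ hmove

end Cfsg.Agent.Lib.Helper86.MaxClass
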