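import Cfsg.Agent.Lib.Helper86.KLMain
import Cfsg.Agent.Lib.Helper86.FusionFrobenius
import Cfsg.Agent.Lib.Helper88.NormalCentral

set_option autoImplicit false

/-! Sparse fusion systems are constrained (given a nilpotency criterion of Thompson type). -/

namespace Cfsg.Agent.Lib.Helper86.KL

open Cfsg Cfsg.FusionSystem Cfsg.Agent.Lib.Helper87 Cfsg.Agent.Lib.Helper86.Model
  Cfsg.Agent.Lib.Helper86.SecFree

universe u v

/-- `f` is, on `P`, conjugation by an element of `S`. -/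
def Inn' {Ω : Type u} [Group Ω] (S P : Subgroup Ω) (f : Ω → Ω) : Prop :=
  ∃ s ∈ S, ∀ x ∈ P, f x = s * x * s⁻¹

theorem mor_inner_iff {Ω : Type u} [Group Ω] (S P : Subgroup Ω) (f : Ω → Ω) :
    Mor (innerFusionSystem S) P f ↔ P ≤ S ∧ Inn' S P f := by
  constructor
  · rintro ⟨φ, ⟨hP, g, hg, h⟩, e⟩
    exact ⟨hP, g, hg, fun x hx => by rw [← e ⟨x, hx⟩, h]⟩
  · rintro ⟨hP, g, hg, h⟩
    exact (mor_conj (innerFusionSystem S) hP hg).congr (fun x hx => (h x hx).symm)

theorem morClass_inn {Ω : Type u} [Group Ω] {S : Subgroup Ω} (F : FusionSystem S) :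
    MorClass F (fun P f => Inn' S P f) where
  congr := by
    rintro P f g ⟨s, hs, h⟩ e
    exact ⟨s, hs, fun x hx => by rw [← e x hx, h x hx]⟩
  mono := by
    rintro P R f - ⟨s, hs, h⟩ hR
    exact ⟨s, hs, fun x hx => h x (hR hx)⟩
  comp := by
    rintro P Q f g - - ⟨s, hs, h⟩ ⟨t, ht, h'⟩ hPQ
    refine ⟨t * s, S.mul_mem ht hs, fun x hx => ?_⟩
    show g (f x) = _
    rw [h' _ (hPQ x hx), h x hx]
    group
  inv := by
    rintro P Q f g hf - hgf ⟨s, hs, h⟩
    refine ⟨s⁻¹, S.inv_mem hs, fun y hy => ?_⟩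
    obtain ⟨x, hx, rfl⟩ := (hf.2 y).1 hy
    rw [hgf x hx, h x hx]
    group

theorem hom_eq_inner_iff {Ω : Type u} [Group Ω] {S : Subgroup Ω} (F : FusionSystem S) :
    (∀ P : Subgroup Ω, F.Hom P = (innerFusionSystem S).Hom P) ↔
      ∀ P f, Mor F P f → Inn' S P f := by
  constructor
  · intro h P f hf
    obtain ⟨φ, hφ, e⟩ := hf
    rw [h P] at hφ
    exact ((mor_inner_iff S P f).1 ⟨φ, hφ, e⟩).2
  · intro h P
    apply Set.Subset.antisymm
    · intro φ hφ
      rw [hom_iff_mor] at hφ ⊢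
      exact (mor_inner_iff S P _).2 ⟨hφ.le, h P _ hφ⟩
    · exact Helper86.inner_le F P

theorem exists_system_of_eq {Ω : Type u} [Group Ω] {S' S : Subgroup Ω} (h : S' = S)
    (N : FusionSystem S') (p : ℕ) :
    ∃ E : FusionSystem S, (∀ P f, Mor E P f ↔ Mor N P f) ∧ (N.IsSaturated p → E.IsSaturated p) := by
  subst h
  exact ⟨N, fun _ _ => Iff.rfl, id⟩

/-- The normalizer system of a normal subgroup `T` of `S`, as a system over `S`. -/
theorem exists_nSystem {Ω : Type u} [Group Ω] {S : Subgroup Ω} [Finite S] {p : ℕ} [Fact p.Prime]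
    (hS : IsPGroup p S) {F : FusionSystem S} (hF : F.IsSaturated p) {T : Subgroup Ω} (hTS : T ≤ S)
    (hTn : S ≤ Subgroup.normalizer (T : Set Ω)) :
    ∃ E : FusionSystem S, (∀ P f, Mor E P f ↔ ExtN F T P f) ∧ E.IsSaturated p := by
  have hNT : normalizerIn S T = S := le_antisymm inf_le_left (le_inf le_rfl hTn)
  obtain ⟨N, hN⟩ := Cfsg.Agent.S5096.result F T hTS
  have hTfn : F.IsFullyNormalized T := ⟨hTS, fun T' _ => by
    rw [hNT]; exact Subgroup.card_le_of_le (normalizerIn_le S T')⟩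
  obtain ⟨E, hE, hsat⟩ := exists_system_of_eq hNT N p
  refine ⟨E, fun P f => ?_, hsat (normalizerSystem_saturated hS hF hTfn hN)⟩
  rw [hE, mor_normalizerSystem_iff hN]
  constructor
  · exact fun h => h.2.2
  · intro h
    exact ⟨by rw [hNT]; exact h.mor.le, fun x hx => by rw [hNT]; exact h.mor.mem hx, h⟩

theorem hom_eq_iff_mor {Ω : Type u} [Group Ω] {S : Subgroup Ω} (E F : FusionSystem S) :
    (∀ P : Subgroup Ω, E.Hom P = F.Hom P) ↔ ∀ P f, Mor E P f ↔ Mor F P f := by
  constructor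
  · intro h P f
    constructor
    · rintro ⟨φ, hφ, e⟩
      exact ⟨φ, h P ▸ hφ, e⟩
    · rintro ⟨φ, hφ, e⟩
      exact ⟨φ, (h P).symm ▸ hφ, e⟩
  · intro h P
    ext φ
    rw [hom_iff_mor, hom_iff_mor, h]

/-- The nilpotency criterion used as input. -/
def ThompsonHyp (p : ℕ) (H : Type v) [Group H] : Prop :=
  ∀ (Ω : Type u) [Group Ω] (S : Subgroup Ω) [Finite S] (F : FusionSystem S), IsPGroup p S →
    F.IsSaturated p → (p ≠ 2 ∨ F.IsSectionFree p H) →
    (∀ Q : Subgroup Ω, Q ≤ S → Q ≠ ⊥ → (Q.subgroupOf S).Characteristic →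
      IsPGroup p (F.autGroup Q)) → ∀ P : Subgroup Ω, F.Hom P = (innerFusionSystem S).Hom P

theorem isNormal_self_of_inner {Ω : Type u} [Group Ω] {S : Subgroup Ω} (F : FusionSystem S)
    (h : ∀ P f, Mor F P f → Inn' S P f) : F.IsNormal S := by
  rw [isNormal_iff]
  refine ⟨le_rfl, fun P f hf => ?_⟩
  obtain ⟨s, hs, e⟩ := h P f hf
  exact ⟨fun x => s * x * s⁻¹, mor_conj F (sup_le hf.le le_rfl) hs, fun x hx => (e x hx).symm,
    conj_iff_of_normalizer (Subgroup.le_normalizer hs)⟩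

theorem constrained_of_sparse {p : ℕ} [Fact p.Prime] {H : Type v} [Group H]
    (hGT : ThompsonHyp.{u, v} p H) {Ω : Type u} [Group Ω] {S : Subgroup Ω} [Finite S]
    (hS : IsPGroup p S) (F : FusionSystem S) (hF : F.IsSaturated p)
    (hne : ¬ ∀ P : Subgroup Ω, F.Hom P = (innerFusionSystem S).Hom P)
    (hsp : ∀ E : FusionSystem S, E.IsSaturated p → E.IsSubsystemOf F →
      (∀ P : Subgroup Ω, E.Hom P = F.Hom P) ∨
        (∀ P : Subgroup Ω, E.Hom P = (innerFusionSystem S).Hom P))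
    (hp : p ≠ 2 ∨ F.IsSectionFree p H) : F.IsConstrained p := by
  rw [hom_eq_inner_iff] at hne
  -- normal subgroups of `S`
  have hsp' : ∀ T : Subgroup Ω, T ≤ S → S ≤ Subgroup.normalizer (T : Set Ω) →
      F.IsNormal T ∨ ∀ P f, ExtN F T P f → Inn' S P f := by
    intro T hTS hTn
    obtain ⟨E, hE, hEsat⟩ := exists_nSystem hS hF hTS hTn
    have hsub : E.IsSubsystemOf F := by
      intro P φ hφ
      rw [hom_iff_mor] at hφ ⊢
      exact ((hE P _).1 hφ).mor
    rcases hsp E hEsat hsub with h | h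
    · left
      rw [isNormal_iff]
      exact ⟨hTS, fun P f hf => (hE P f).1 (((hom_eq_iff_mor E F).1 h P f).2 hf)⟩
    · right
      intro P f hf
      exact (hom_eq_inner_iff E).1 h P f ((hE P f).2 hf)
  set Q := F.core with hQdef
  have hQ : F.IsNormal Q := Helper88.isNormal_core F
  have hmax : ∀ T, F.IsNormal T → T ≤ Q := fun T hT => le_sSup hT
  have hQS := hQ.1
  have hNQ := normalizerIn_eq_of_normal hQ
  have hQn : S ≤ Subgroup.normalizer (Q : Set Ω) := by
    intro s hs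
    rw [← hNQ] at hs
    exact hs.2
  by_cases hc : centralizerIn S Q ≤ Q
  · refine ⟨hF, Q, hQ, hQS, fun Q' hQ' => ?_⟩
    rw [IsNormal.eq_of_isConj hQ hQ']
    exact hc
  exfalso
  have hRS : Q ⊔ centralizerIn S Q ≤ S := sup_le hQS inf_le_left
  have hR : ∀ P f, ExtN F (Q ⊔ centralizerIn S Q) P f → Inn' S P f := by
    rcases hsp' _ hRS (le_normalizer_sup hQn (le_normalizer_centralizerIn hQn)) with h | h
    · exact absurd (le_sup_right.trans (hmax _ h)) hc
    · exact h
  -- `F = S C_F(Q)`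
  have hA : IsPGroup p (F.autGroup Q) := by
    rcases hsp _ (scSystem_saturated hS hF Q hQS hQn) (scSystem_sub F Q hQS hQn) with h | h
    · refine (scSystem_autGroup_isPGroup hS F Q hQS hQn).to_le (fun α hα => ?_)
      rw [Helper87.mem_autGroup_iff _ hQS] at hα ⊢
      exact ((hom_eq_iff_mor _ F).1 h Q _).2 hα
    · exfalso
      apply hne
      refine generation hF hQ (morClass_inn F) (fun P f hf => ?_) hR
      exact (hom_eq_inner_iff _).1 h P f ((mor_scSystem_iff F Q hQS hQn P f).2 hf)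
  have hsc := IsNormal.stronglyClosed hQ
  have hnorm : (Q.subgroupOf S).Normal := by
    rw [← Subgroup.normalizer_eq_top_iff, eq_top_iff]
    intro s _
    rw [Subgroup.mem_normalizer_iff]
    intro x
    exact Subgroup.mem_normalizer_iff.1 (hQn s.2) x
  obtain ⟨Eb, hEb⟩ := Cfsg.Agent.S5132.result p hS F Q hsc
  have h := surjMor_of_factor hS hF hsc hEb
  have hker : h.ker = Q := by
    ext x
    rw [h.mem_ker]
    constructor
    · rintro ⟨hx, e⟩
      rw [tf_apply _ hx] at e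
      exact (hEb.2.1 ⟨x, hx⟩).1 e
    · intro hx
      refine ⟨hQS hx, ?_⟩
      rw [tf_apply _ (hQS hx)]
      exact (hEb.2.1 ⟨x, hQS hx⟩).2 hx
  have hfin := h.finite_target
  have hSb := h.isPGroup_target hS
  have hEbsat := h.saturated_target hS hF
  have hEbinn : ∀ P f, Mor Eb P f → Inn' ⊤ P f := by
    rw [← hom_eq_inner_iff]
    refine hGT _ _ Eb hSb hEbsat (hp.imp id (sectionFree_factor hS hF hsc hEb)) ?_
    intro Tb hTbS hTb1 hTbc
    have hTbn : (⊤ : Subgroup (↥S ⧸ Q.subgroupOf S)) ≤ Subgroup.normalizer (Tb : Set _) := by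
      have hn : (Tb.subgroupOf ⊤).Normal := inferInstance
      intro s hs
      rw [Subgroup.mem_normalizer_iff]
      intro x
      have h1 : (⟨s, hs⟩ : (⊤ : Subgroup (↥S ⧸ Q.subgroupOf S))) ∈
          Subgroup.normalizer ((Tb.subgroupOf ⊤ : Subgroup _) : Set _) := by
        rw [Subgroup.normalizer_eq_top]
        trivial
      exact Subgroup.mem_normalizer_iff.1 h1 ⟨x, trivial⟩
    set T := h.preimage Tb with hT
    have hTS : T ≤ S := h.preimage_le Tb
    have hTn : S ≤ Subgroup.normalizer (T : Set Ω) := by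
      refine le_normalizer_of_conj_mem (fun s hs x hx => ?_)
      refine (h.mem_preimage Tb _).2 ⟨S.mul_mem (S.mul_mem hs hx.1) (S.inv_mem hs), ?_⟩
      rw [h.map_conj hs hx.1]
      exact (Subgroup.mem_normalizer_iff.1 (hTbn (h.mem s hs)) _).1 hx.2
    have hTinn : ∀ P f, ExtN F T P f → Inn' S P f := by
      rcases hsp' T hTS hTn with h' | h'
      · exfalso
        have h1 := lt_preimage h hTbS hTb1
        rw [hker] at h1
        exact absurd (hmax _ h') (not_le_of_gt h1)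
      · exact h'
    have hle : Eb.autGroup Tb ≤ autInducedBy ⊤ Tb := by
      intro α hα
      have hm := (Helper87.mem_autGroup_iff Eb hTbS α).1 hα
      obtain ⟨f, hf, e⟩ := h.lift Tb _ hm T (h.mem_preimage Tb)
      have : Finite T := finite_of_le hTS
      have hiso : Iso F T T f := hf.iso_self (fun x hx => by
        refine (h.mem_preimage Tb _).2 ⟨hf.mem hx, ?_⟩
        rw [← e x hx]
        exact (iso_autFun hm).map_mem hx.2)
      obtain ⟨s, hs, es⟩ := hTinn T f ⟨f, by rw [sup_idem]; exact hf, fun _ _ => rfl, hiso.2⟩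
      refine (Helper87.mem_autInducedBy_iff _ Tb α).2 ⟨_, h.mem s hs, fun y => ?_⟩
      obtain ⟨x, hx, hxy⟩ := h.surj y (hTbS y.2)
      have hxT : x ∈ T := (h.mem_preimage Tb x).2 ⟨hx, hxy ▸ y.2⟩
      rw [← autFun_coe, ← hxy, e x hxT, es x hxT, h.map_conj hs hx]
    exact (Helper87.isPGroup_autInducedBy hSb Tb).to_le hle
  have hSn := isNormal_preimage hS hF h (by rw [hker]; exact hQ) (by rw [hker]; exact hA)
    (isNormal_self_of_inner Eb hEbinn)
  apply hc
  refine (inf_le_left : centralizerIn S Q ≤ S).trans (le_trans ?_ (hmax _ hSn))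
  intro x hx
  exact (h.mem_preimage _ x).2 ⟨hx, h.mem x hx⟩

end Cfsg.Agent.Lib.Helper86.KL
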