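import Cfsg.Agent.Lib.Helper87.Hyperfocal
import Cfsg.Agent.Lib.Helper89.NilBasic
import Cfsg.Agent.S5092

set_option autoImplicit false

namespace Cfsg.Agent.Lib.Helper86.TateRung

open Cfsg Cfsg.FusionSystem Cfsg.Agent.Lib.Helper87
open scoped commutatorElement

variable {Ω : Type*} [Group Ω] {S : Subgroup Ω}

/-- The output of the `F`-stable transfer: a complement-like subgroup `K` to the hyperfocal
subgroup modulo `[hyp, S]`. -/
def TransferHyp (F : FusionSystem S) (p : ℕ) : Prop :=
  ∃ K : Subgroup Ω, K ≤ S ∧ ⁅S, S⁆ ≤ K ∧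
    F.hyperfocalSubgroup p ⊓ K = ⁅F.hyperfocalSubgroup p, S⁆ ∧ F.hyperfocalSubgroup p ⊔ K = S

theorem hyperfocal_mono {F H : FusionSystem S} (h : H.IsSubsystemOf F) (p : ℕ) :
    H.hyperfocalSubgroup p ≤ F.hyperfocalSubgroup p := by
  conv_lhs => unfold FusionSystem.hyperfocalSubgroup
  rw [Subgroup.closure_le]
  rintro _ ⟨P, α, x, hP, hα, rfl⟩
  have hle : H.autGroup P ≤ F.autGroup P := Helper89.autGroup_le_of_subsystem h le_rfl hP
  exact mem_hyperfocal_of hP
    (map_mem_pResidual p (Subgroup.inclusion hle) (Subgroup.inclusion_injective hle) hα) x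

/-- In a nilpotent group `S`: if `M ≤ N [M, S]` with `N` normalized by `S` then `M ≤ N`. -/
theorem le_of_le_sup_commutator [Group.IsNilpotent S] {N M : Subgroup Ω} (hM : M ≤ S)
    (hN : ∀ s ∈ S, ∀ a ∈ N, s * a * s⁻¹ ∈ N) (h : M ≤ N ⊔ ⁅M, S⁆) : M ≤ N := by
  have key : ∀ n, M ≤ N ⊔ S.lowerCentralSeries n := by
    intro n
    induction n with
    | zero => exact hM.trans le_sup_right
    | succ n ih =>
      refine h.trans (sup_le le_sup_left ?_)
      refine (Subgroup.commutator_mono ih le_rfl).trans ?_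
      rw [Subgroup.commutator_le]
      intro g hg s hs
      have hγ : S.lowerCentralSeries n ≤ S := by
        have := S.lowerCentralSeries_antitone (Nat.zero_le n)
        simpa using this
      rw [sup_comm] at hg
      obtain ⟨b, hb, a, ha, rfl⟩ := mem_sup_of_normalizes (fun b hb a ha => hN b (hγ hb) a ha) hg
      have e : ⁅b * a, s⁆ = (b * a * b⁻¹) * (b * (s * a⁻¹ * s⁻¹) * b⁻¹) * ⁅b, s⁆ := by
        simp only [commutatorElement_def]; group
      rw [e]
      refine Subgroup.mul_mem _ (Subgroup.mul_mem _ ?_ ?_) ?_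
      · exact (le_sup_left : N ≤ _) (hN b (hγ hb) a ha)
      · exact (le_sup_left : N ≤ _) (hN b (hγ hb) _ (hN s hs _ (N.inv_mem ha)))
      · exact (le_sup_right : _ ≤ N ⊔ _) (Subgroup.commutator_mem_commutator hb hs)
  obtain ⟨n, hn⟩ := (Subgroup.isNilpotent_iff_lowerCentralSeries S).1 inferInstance
  have := key n
  rwa [hn, sup_bot_eq] at this

/-- Frattini non-generation inside the ambient group. -/
theorem eq_of_frattini_sup [Finite S] {M : Subgroup Ω} (hM : M ≤ S)
    (h : S ≤ (frattini ↥S).map S.subtype ⊔ M) : M = S := by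
  have h1 : M.subgroupOf S ⊔ frattini ↥S = ⊤ := by
    rw [eq_top_iff]
    intro x _
    have hx := h x.2
    have h2 : (frattini ↥S).map S.subtype ⊔ M = (frattini ↥S ⊔ M.subgroupOf S).map S.subtype := by
      rw [Subgroup.map_sup, Subgroup.subgroupOf_map_subtype, inf_eq_left.2 hM]
    rw [h2] at hx
    obtain ⟨y, hy, e⟩ := hx
    have : y = x := Subtype.ext e
    rw [← this, sup_comm]
    exact hy
  have h3 := frattini_nongenerating h1
  apply le_antisymm hM
  intro x hx
  have : (⟨x, hx⟩ : S) ∈ M.subgroupOf S := by rw [h3]; trivial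
  exact this

/-- The hard implication of Tate's theorem, from the transfer hypothesis. -/
theorem hyperfocal_eq_of [Finite S] {p : ℕ} [Fact p.Prime] (hS : IsPGroup p S)
    {F : FusionSystem S} (hF : F.IsSaturated p) (hT : TransferHyp F p)
    {H : FusionSystem S} (hH : H.IsSaturated p) (hHF : H.IsSubsystemOf F)
    (h : F.focalSubgroup ≤ (frattini ↥S).map S.subtype ⊔ H.focalSubgroup) :
    F.hyperfocalSubgroup p = H.hyperfocalSubgroup p := by
  obtain ⟨K, hKS, hSK, hinf, hsup⟩ := hT
  set Hy := F.hyperfocalSubgroup p with hHy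
  set E := H.hyperfocalSubgroup p with hE
  have hEHy : E ≤ Hy := hyperfocal_mono hHF p
  have hHyS : Hy ≤ S := hyperfocal_le F p
  have hES : E ≤ S := hyperfocal_le H p
  have hEn : ∀ s ∈ S, ∀ a ∈ E, s * a * s⁻¹ ∈ E := fun s hs a ha => hyperfocal_conj_mem H p hs ha
  have hfocH : H.focalSubgroup ≤ K ⊔ E := by
    rw [Cfsg.Agent.S5092.result p hS H hH]
    exact sup_le le_sup_right (hSK.trans le_sup_left)
  have hfocF : Hy ≤ F.focalSubgroup := by
    rw [Cfsg.Agent.S5092.result p hS F hF]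
    exact le_sup_left
  have hM : K ⊔ E = S := by
    apply eq_of_frattini_sup (sup_le hKS hES)
    have a1 : K ⊔ E ≤ (frattini ↥S).map S.subtype ⊔ (K ⊔ E) := le_sup_right
    have a2 : (frattini ↥S).map S.subtype ≤ (frattini ↥S).map S.subtype ⊔ (K ⊔ E) := le_sup_left
    have a3 : K ≤ K ⊔ E := le_sup_left
    have a4 : Hy ≤ (frattini ↥S).map S.subtype ⊔ (K ⊔ E) :=
      hfocF.trans (h.trans (sup_le a2 (hfocH.trans a1)))
    calc S = Hy ⊔ K := hsup.symm
      _ ≤ _ := sup_le a4 (a3.trans a1)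
  have : Group.IsNilpotent S := hS.isNilpotent
  apply le_antisymm _ hEHy
  apply le_of_le_sup_commutator hHyS hEn
  intro x hx
  have hx' : x ∈ K ⊔ E := by rw [hM]; exact hHyS hx
  obtain ⟨k, hk, e, he, rfl⟩ := mem_sup_of_normalizes (fun k hk e he => hEn k (hKS hk) e he) hx'
  have hk' : k ∈ Hy ⊓ K := by
    refine ⟨?_, hk⟩
    have := Hy.mul_mem hx (Hy.inv_mem (hEHy he))
    rwa [mul_inv_cancel_right] at this
  rw [hinf] at hk'
  exact Subgroup.mul_mem _ ((le_sup_right : _ ≤ E ⊔ _) hk') ((le_sup_left : E ≤ _) he)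

/-- Tate's theorem for fusion systems (text of S5224), from the transfer hypothesis. -/
theorem S5224_of [Finite S] (p : ℕ) [Fact p.Prime] (hS : IsPGroup p S)
    (F : FusionSystem S) (hF : F.IsSaturated p) (hT : TransferHyp F p)
    (H : FusionSystem S) (hH : H.IsSaturated p) (hHF : H.IsSubsystemOf F) :
    (((frattini ↥S).map S.subtype ⊔ F.focalSubgroup) =
        ((frattini ↥S).map S.subtype ⊔ H.focalSubgroup) ↔ F.focalSubgroup = H.focalSubgroup) ∧
      (F.focalSubgroup = H.focalSubgroup ↔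
        F.hyperfocalSubgroup p = H.hyperfocalSubgroup p) := by
  have h1 : F.hyperfocalSubgroup p = H.hyperfocalSubgroup p → F.focalSubgroup = H.focalSubgroup := by
    intro h
    rw [Cfsg.Agent.S5092.result p hS F hF, Cfsg.Agent.S5092.result p hS H hH, h]
  have h2 : ((frattini ↥S).map S.subtype ⊔ F.focalSubgroup) =
        ((frattini ↥S).map S.subtype ⊔ H.focalSubgroup) →
      F.hyperfocalSubgroup p = H.hyperfocalSubgroup p := by
    intro h
    apply hyperfocal_eq_of hS hF hT hH hHF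
    rw [← h]
    exact le_sup_right
  exact ⟨⟨fun h => h1 (h2 h), fun h => by rw [h]⟩, ⟨fun h => h2 (by rw [h]), h1⟩⟩

end Cfsg.Agent.Lib.Helper86.TateRung
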