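import Cfsg.Agent.Lib.Helper86.TateRung
import Cfsg.Agent.Lib.Helper86.SecFree5
import Cfsg.Agent.Lib.Helper89.NilZJ
import Cfsg.Agent.Lib.Helper90.FusionAbelian
import Cfsg.Agent.Lib.Helper3.PGroup
import Cfsg.Agent.S5132

set_option autoImplicit false

namespace Cfsg.Agent.Lib.Helper86.TateRung

open Cfsg Cfsg.FusionSystem Cfsg.Agent.Lib.Helper87 Cfsg.Agent.Lib.Helper86.SecFree
open scoped commutatorElement

variable {Ω : Type*} [Group Ω] {S : Subgroup Ω}

theorem frattini_conj_mem {s x : Ω} (hs : s ∈ S) (hx : x ∈ (frattini ↥S).map S.subtype) :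
    s * x * s⁻¹ ∈ (frattini ↥S).map S.subtype := by
  obtain ⟨y, hy, rfl⟩ := hx
  have hn : (frattini ↥S).Normal := inferInstance
  exact ⟨⟨s, hs⟩ * y * ⟨s, hs⟩⁻¹, hn.conj_mem y hy _, rfl⟩

theorem comm_mem_frattini [Finite S] {p : ℕ} [Fact p.Prime] (hS : IsPGroup p S) :
    ∀ x ∈ S, ∀ s ∈ S, x⁻¹ * (s * x * s⁻¹) ∈ (frattini ↥S).map S.subtype := by
  intro x hx s hs
  refine ⟨⁅(⟨x, hx⟩ : S)⁻¹, ⟨s, hs⟩⁆, Helper3.commutator_le_frattini hS
    (Subgroup.commutator_mem_commutator trivial trivial), ?_⟩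
  simp [commutatorElement_def, mul_assoc]

/-- If all `F`-automorphisms of `S` are inner and `T` is strongly closed with `S/T` abelian, then the focal
subgroup lies in `T`. -/
theorem comm_mem_of_abelian_quot [Finite S] {p : ℕ} [Fact p.Prime] (hS : IsPGroup p S)
    {F : FusionSystem S} (hF : F.IsSaturated p) {T : Subgroup Ω} (hT : F.StronglyClosed T)
    (hST : ∀ x ∈ S, ∀ s ∈ S, x⁻¹ * (s * x * s⁻¹) ∈ T)
    (hA : ∀ f, Mor F S f → ∃ t ∈ S, ∀ x ∈ S, f x = t * x * t⁻¹)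
    {P : Subgroup Ω} {f : Ω → Ω} (hf : Mor F P f) : ∀ x ∈ P, x⁻¹ * f x ∈ T := by
  have hTS : T ≤ S := hT.1
  have hnorm : (T.subgroupOf S).Normal := by
    refine ⟨fun x hx s => ?_⟩
    have h1 := hST x x.2 s s.2
    have h2 : (x : Ω) * ((x : Ω)⁻¹ * (s * x * s⁻¹)) ∈ T := T.mul_mem hx h1
    rw [mul_inv_cancel_left] at h2
    exact h2
  obtain ⟨Eb, hEb⟩ := Cfsg.Agent.S5132.result p hS F T hT
  have h := surjMor_of_factor hS hF hT hEb
  have hfin := h.finite_target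
  have hEbsat := h.saturated_target hS hF
  have hker : h.ker = T := by
    ext x
    rw [h.mem_ker]
    constructor
    · rintro ⟨hx, e⟩
      rw [tf_apply _ hx] at e
      exact (hEb.2.1 ⟨x, hx⟩).1 e
    · intro hx
      refine ⟨hTS hx, ?_⟩
      rw [tf_apply _ (hTS hx)]
      exact (hEb.2.1 ⟨x, hTS hx⟩).2 hx
  set θ := tf (QuotientGroup.mk' (T.subgroupOf S)) with hθ
  have hconj : ∀ x ∈ S, ∀ s ∈ S, θ (s * x * s⁻¹) = θ x := by
    intro x hx s hs
    rw [eq_comm, h.eq_iff hx (S.mul_mem (S.mul_mem hs hx) (S.inv_mem hs)), hker]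
    exact hST x hx s hs
  have hab : ∀ a ∈ (⊤ : Subgroup (↥S ⧸ T.subgroupOf S)), ∀ b ∈ (⊤ : Subgroup (↥S ⧸ T.subgroupOf S)),
      a * b = b * a := by
    intro a ha b hb
    obtain ⟨x, hx, rfl⟩ := h.surj a ha
    obtain ⟨s, hs, rfl⟩ := h.surj b hb
    have h1 := hconj x hx s hs
    rw [h.map_conj hs hx] at h1
    exact (mul_inv_eq_iff_eq_mul.1 h1).symm
  intro x hx
  have hxS := hf.le hx
  obtain ⟨f', hf', e'⟩ := h.push P f hf (h.image P hf.le) (h.mem_image hf.le)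
  obtain ⟨α, hα, eα⟩ := Helper90.abelian_ext hEbsat hab hf'
  have hm := (Helper87.mem_autGroup_iff Eb le_rfl α).1 hα
  obtain ⟨g, hg, eg⟩ := h.lift _ _ hm S (fun y => ⟨fun hy => ⟨hy, trivial⟩, fun hy => hy.1⟩)
  obtain ⟨t, ht, et⟩ := hA g hg
  rw [← hker, ← h.eq_iff hxS (hf.mem hx), ← e' x hx, ← eα _ ((h.mem_image hf.le _).2 ⟨x, hx, rfl⟩),
    eg x hxS, et x hxS, hconj x hxS t ht]

theorem focal_le_of_forall {F : FusionSystem S} {T : Subgroup Ω}
    (h : ∀ P f, Mor F P f → ∀ x ∈ P, x⁻¹ * f x ∈ T) : F.focalSubgroup ≤ T := by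
  unfold FusionSystem.focalSubgroup
  rw [Subgroup.closure_le]
  rintro _ ⟨P, φ, x, hφ, rfl⟩
  have := h P _ (Mor.of_hom hφ) x x.2
  rw [ext_coe] at this
  exact this

theorem pResidual_eq_bot_of_isPGroup {A : Type*} [Group A] {p : ℕ} [Fact p.Prime]
    (hA : IsPGroup p A) : pResidual p A = ⊥ := by
  unfold pResidual
  rw [Subgroup.closure_eq_bot_iff]
  intro g hg
  obtain ⟨k, hk⟩ := hA g
  have h1 : orderOf g ∣ p ^ k := orderOf_dvd_of_pow_eq_one hk
  have h2 : Nat.Coprime (orderOf g) (p ^ k) := Nat.Coprime.pow_right k hg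
  have h3 : orderOf g = 1 := Nat.Coprime.eq_one_of_dvd h2 h1
  exact orderOf_eq_one_iff.1 h3

theorem hyperfocal_inner {p : ℕ} [Fact p.Prime] (hS : IsPGroup p S) :
    (innerFusionSystem S).hyperfocalSubgroup p = ⊥ := by
  unfold FusionSystem.hyperfocalSubgroup
  rw [Subgroup.closure_eq_bot_iff]
  rintro _ ⟨P, α, x, hP, hα, rfl⟩
  have hp : IsPGroup p ((innerFusionSystem S).autGroup P) :=
    (Helper87.isPGroup_autInducedBy hS P).to_le (Helper90.inner_autGroup_le S P hP)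
  rw [pResidual_eq_bot_of_isPGroup hp, Subgroup.mem_bot] at hα
  subst hα
  simp

theorem nil_of_hyperfocal_eq_bot [Finite S] {p : ℕ} [Fact p.Prime] {F : FusionSystem S}
    (h : F.hyperfocalSubgroup p = ⊥) : Helper89.Nil F p := by
  intro P hP α hα
  have : Finite P := finite_of_le hP
  have hres : pResidual p (F.autGroup P) = ⊥ := by
    rw [eq_bot_iff]
    intro w hw
    rw [Subgroup.mem_bot]
    apply Subtype.ext
    apply MulEquiv.ext
    intro x
    have h1 := mem_hyperfocal_of hP hw x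
    rw [h, Subgroup.mem_bot, inv_mul_eq_one] at h1
    exact Subtype.ext h1.symm
  obtain ⟨k, hk⟩ := Helper2.isPGroup_quotient_pResidual (G := F.autGroup P) p
    (QuotientGroup.mk ⟨α, hα⟩)
  rw [← QuotientGroup.mk_pow, QuotientGroup.eq_one_iff, hres, Subgroup.mem_bot] at hk
  exact ⟨k, congrArg Subtype.val hk⟩

/-- Text of S5276, from the transfer hypothesis. -/
theorem S5276_of [Finite S] (p : ℕ) [Fact p.Prime] (hS : IsPGroup p ↥S)
    (F : FusionSystem S) (hF : F.IsSaturated p) (hT : TransferHyp F p) :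
    (∀ P : Subgroup Ω, F.Hom P = (innerFusionSystem S).Hom P) ↔
      (∀ N : FusionSystem (normalizerIn S S), F.IsNormalizerSystem S N →
        ∀ P : Subgroup Ω, N.Hom P = (innerFusionSystem (normalizerIn S S)).Hom P) ∧
      F.StronglyClosed ((frattini ↥S).map S.subtype) := by
  have hSn : S ≤ Subgroup.normalizer (S : Set Ω) := Subgroup.le_normalizer
  have hΦS : (frattini ↥S).map S.subtype ≤ S := by
    rintro _ ⟨y, -, rfl⟩
    exact y.2
  rw [Helper89.normalizerSystem_inner_iff hS hF le_rfl hSn]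
  constructor
  · intro h
    refine ⟨((Helper89.inner_iff_nil hS hF).1 h).pAut S, hΦS, fun R hR φ hφ x => ?_⟩
    rw [h R] at hφ
    obtain ⟨-, g, hg, e⟩ := (Helper90.mem_inner_hom_iff S R φ).1 hφ
    rw [e]
    exact frattini_conj_mem hg (hR x.2)
  · rintro ⟨hPA, hsc⟩
    have hpA : IsPGroup p (F.autGroup S) := by
      intro α
      obtain ⟨k, hk⟩ := hPA S le_rfl (fun x hx => ⟨hx, hSn hx⟩) α.1 α.2 (fun x _ => (α.1 x).2)
      exact ⟨k, Subtype.ext hk⟩
    have hsyl := (fullyAutomized_iff F p le_rfl).1 (Helper90.sat_top hF).1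
    have heq : F.autGroup S = autInducedBy S S := hsyl.2.2 _ le_rfl hpA hsyl.1
    have hA : ∀ f, Mor F S f → ∃ t ∈ S, ∀ x ∈ S, f x = t * x * t⁻¹ := by
      intro f hf
      obtain ⟨α, hα, e⟩ := (hf.iso_self (fun x hx => hf.mem hx)).exists_aut
      rw [heq] at hα
      obtain ⟨t, ht, et⟩ := (Helper87.mem_autInducedBy_iff S S α).1 hα
      exact ⟨t, ht, fun x hx => by rw [← e ⟨x, hx⟩, et]⟩
    have hfoc : F.focalSubgroup ≤ (frattini ↥S).map S.subtype :=
      focal_le_of_forall (fun P f hf => comm_mem_of_abelian_quot hS hF hsc (comm_mem_frattini hS) hA hf)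
    have hhyp := hyperfocal_eq_of hS hF hT (Helper90.inner_saturated S hS)
      (Helper90.inner_isSubsystemOf F le_rfl) (hfoc.trans le_sup_left)
    rw [hyperfocal_inner hS] at hhyp
    exact (Helper89.inner_iff_nil hS hF).2 (nil_of_hyperfocal_eq_bot hhyp)

end Cfsg.Agent.Lib.Helper86.TateRung
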